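import Mathlib
set_option linter.all false

/-!
# Semisimple endomorphisms with the same characteristic polynomial are similar

* `dvd_of_dvd_charpoly` : an irreducible factor of the characteristic polynomial divides every annihilating polynomial;
* `exists_equiv` : `f`, `h` annihilated by a squarefree polynomial, same characteristic polynomial: `e (f v) = h (e v)`.
-/

set_option autoImplicit false

open Polynomial Module

namespace Cfsg.Agent.H193.SsConj

universe u

variable {F : Type u} [Field F] {V W : Type*} [AddCommGroup V] [Module F V] [AddCommGroup W] [Module F W]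

open scoped TensorProduct in
theorem dvd_of_dvd_charpoly [FiniteDimensional F V] (f : Module.End F V) {ψ P : F[X]} (hψ : Irreducible ψ)
    (hd : ψ ∣ f.charpoly) (hP : aeval f P = 0) : ψ ∣ P := by
  have : Fact (Irreducible ψ) := ⟨hψ⟩
  let L := AdjoinRoot ψ
  have h1 : (LinearMap.charpoly (f.baseChange L)).IsRoot (AdjoinRoot.root ψ) := by
    rw [LinearMap.charpoly_baseChange, Polynomial.IsRoot, Polynomial.eval_map]
    obtain ⟨c, hc⟩ := hd
    rw [hc, Polynomial.eval₂_mul]
    have : Polynomial.eval₂ (algebraMap F L) (AdjoinRoot.root ψ) ψ = 0 := AdjoinRoot.eval₂_root ψ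
    rw [this, zero_mul]
  have h2 := (Module.End.hasEigenvalue_iff_isRoot_charpoly (f.baseChange L) (AdjoinRoot.root ψ)).2 h1
  obtain ⟨x, hx⟩ := h2.exists_hasEigenvector
  have h3 := Module.End.aeval_apply_of_hasEigenvector (p := P.map (algebraMap F L)) hx
  have h4 : aeval (f.baseChange L) (P.map (algebraMap F L)) = 0 := by
    rw [Polynomial.aeval_map_algebraMap]
    have h5 := Polynomial.aeval_algHom_apply (Module.End.baseChangeHom F L V) f P
    rw [hP, map_zero] at h5
    exact h5
  rw [h4, LinearMap.zero_apply] at h3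
  have h6 := (smul_eq_zero.1 h3.symm).resolve_right hx.2
  rw [Polynomial.eval_map] at h6
  have h7 : AdjoinRoot.mk ψ P = 0 := by
    rw [← AdjoinRoot.aeval_eq]
    exact h6
  exact AdjoinRoot.mk_eq_zero.1 h7

theorem exists_equiv_irred [FiniteDimensional F V] [FiniteDimensional F W] (f : Module.End F V) (h : Module.End F W)
    {φ : F[X]} (hφ : Irreducible φ) (hf : aeval f φ = 0) (hh : aeval h φ = 0) (hd : finrank F V = finrank F W) :
    ∃ e : V ≃ₗ[F] W, ∀ v, e (f v) = h (e v) := by
  have hmax : (Ideal.span {φ}).IsMaximal := PrincipalIdealRing.isMaximal_of_irreducible hφ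
  let K := F[X] ⧸ Ideal.span {φ}
  let _ : Field K := Ideal.Quotient.field _
  let ρ : K →ₐ[F] Module.End F V := Ideal.Quotient.liftₐ (Ideal.span {φ}) (aeval f) (by
    intro a ha
    obtain ⟨b, rfl⟩ := Ideal.mem_span_singleton.1 ha
    rw [map_mul, hf, zero_mul])
  let ρ' : K →ₐ[F] Module.End F W := Ideal.Quotient.liftₐ (Ideal.span {φ}) (aeval h) (by
    intro a ha
    obtain ⟨b, rfl⟩ := Ideal.mem_span_singleton.1 ha
    rw [map_mul, hh, zero_mul])
  let _ : Module K V := Module.compHom V ρ.toRingHom
  let _ : Module K W := Module.compHom W ρ'.toRingHom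
  have sV : ∀ (k : K) (v : V), k • v = ρ k v := fun _ _ => rfl
  have sW : ∀ (k : K) (v : W), k • v = ρ' k v := fun _ _ => rfl
  have : IsScalarTower F K V := ⟨fun a k v => by
    rw [sV, sV, map_smul, LinearMap.smul_apply]⟩
  have : IsScalarTower F K W := ⟨fun a k v => by
    rw [sW, sW, map_smul, LinearMap.smul_apply]⟩
  have : FiniteDimensional K V := FiniteDimensional.right F K V
  have : FiniteDimensional K W := FiniteDimensional.right F K W
  have hK : finrank F K ≠ 0 ∨ finrank F V = 0 := by
    by_cases h0 : finrank F K = 0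
    · right
      rw [← Module.finrank_mul_finrank F K V, h0, zero_mul]
    · exact Or.inl h0
  rcases hK with hK | hK
  · have h1 : finrank K V = finrank K W := by
      have h2 := Module.finrank_mul_finrank F K V
      have h3 := Module.finrank_mul_finrank F K W
      rw [hd, ← h3] at h2
      exact Nat.eq_of_mul_eq_mul_left (Nat.pos_of_ne_zero hK) h2
    let e := LinearEquiv.ofFinrankEq (R := K) V W h1
    refine ⟨e.restrictScalars F, fun v => ?_⟩
    have h4 := e.map_smul (Ideal.Quotient.mk (Ideal.span {φ}) X : K) v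
    have h5 : (Ideal.Quotient.mk (Ideal.span {φ}) X : K) • v = f v := by
      rw [sV]
      show (aeval f X) v = f v
      rw [aeval_X]
    have h6 : (Ideal.Quotient.mk (Ideal.span {φ}) X : K) • e v = h (e v) := by
      rw [sW]
      show (aeval h X) (e v) = h (e v)
      rw [aeval_X]
    rw [h5, h6] at h4
    exact h4
  · have : Subsingleton V := Module.finrank_zero_iff.1 hK
    have : Subsingleton W := Module.finrank_zero_iff.1 (hd.symm.trans hK)
    exact ⟨LinearEquiv.ofSubsingleton _ _, fun v => Subsingleton.elim _ _⟩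

/-- the charpoly is the product of the charpolys of the restrictions to complementary invariant subspaces -/
theorem charpoly_eq_mul [FiniteDimensional F V] (f : Module.End F V) {A B : Submodule F V} (hAB : IsCompl A B)
    (hA : ∀ v ∈ A, f v ∈ A) (hB : ∀ v ∈ B, f v ∈ B) :
    f.charpoly = (f.restrict hA).charpoly * (f.restrict hB).charpoly := by
  let e := Submodule.prodEquivOfIsCompl A B hAB
  have h1 : (f.restrict hA).prodMap (f.restrict hB) = e.symm.conj f := by
    apply LinearMap.ext
    rintro ⟨a, b⟩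
    show _ = e.symm (f (e (a, b)))
    rw [LinearEquiv.eq_symm_apply]
    simp only [e, LinearMap.prodMap_apply, Submodule.coe_prodEquivOfIsCompl', map_add, LinearMap.coe_restrict_apply]
  rw [← e.symm.charpoly_conj f, ← h1, LinearMap.charpoly_prodMap]

theorem aeval_restrict (f : Module.End F V) {A : Submodule F V} (hA : ∀ v ∈ A, f v ∈ A) (P : F[X]) (v : A) :
    ((aeval (f.restrict hA) P v : A) : V) = aeval f P v := by
  induction P using Polynomial.induction_on' with
  | add p q hp hq => rw [map_add, map_add, LinearMap.add_apply, LinearMap.add_apply, Submodule.coe_add, hp, hq]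
  | monomial n a =>
    rw [aeval_monomial, aeval_monomial, Module.End.mul_apply, Module.End.mul_apply, Module.algebraMap_end_apply,
      Module.algebraMap_end_apply, Submodule.coe_smul]
    congr 1
    induction n generalizing v with
    | zero => rfl
    | succ n ih => rw [pow_succ, pow_succ, Module.End.mul_apply, Module.End.mul_apply, ih]; rfl

theorem ker_inv (f : Module.End F V) (P : F[X]) : ∀ v ∈ LinearMap.ker (aeval f P), f v ∈ LinearMap.ker (aeval f P) := by
  intro v hv
  rw [LinearMap.mem_ker] at hv ⊢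
  have h1 : (aeval f P) (f v) = f (aeval f P v) := by
    have h2 : aeval f (P * X) = aeval f (X * P) := by rw [mul_comm]
    rw [map_mul, map_mul, aeval_X] at h2
    exact LinearMap.congr_fun h2 v
  rw [h1, hv, map_zero]

theorem exists_equiv_aux (n : ℕ) : ∀ {V W : Type u} [AddCommGroup V] [Module F V] [AddCommGroup W] [Module F W]
    [FiniteDimensional F V] [FiniteDimensional F W] (f : Module.End F V) (h : Module.End F W) (P : F[X]),
    P.natDegree ≤ n → Squarefree P → aeval f P = 0 → aeval h P = 0 → f.charpoly = h.charpoly →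
    ∃ e : V ≃ₗ[F] W, ∀ v, e (f v) = h (e v) := by
  induction n with
  | zero =>
    intro V W _ _ _ _ _ _ f h P hn hP hf hh _
    have hP0 : P ≠ 0 := hP.ne_zero
    obtain ⟨c, hc⟩ : ∃ c : F, P = C c := ⟨P.coeff 0, Polynomial.eq_C_of_natDegree_le_zero hn⟩
    have hc0 : c ≠ 0 := by rintro rfl; exact hP0 (by rw [hc, C_0])
    have hV : ∀ v : V, v = 0 := fun v => by
      have h1 := LinearMap.congr_fun hf v
      rw [hc, aeval_C, Module.algebraMap_end_apply, LinearMap.zero_apply] at h1
      exact (smul_eq_zero.1 h1).resolve_left hc0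
    have hW : ∀ v : W, v = 0 := fun v => by
      have h1 := LinearMap.congr_fun hh v
      rw [hc, aeval_C, Module.algebraMap_end_apply, LinearMap.zero_apply] at h1
      exact (smul_eq_zero.1 h1).resolve_left hc0
    have : Subsingleton V := ⟨fun a b => by rw [hV a, hV b]⟩
    have : Subsingleton W := ⟨fun a b => by rw [hW a, hW b]⟩
    exact ⟨LinearEquiv.ofSubsingleton _ _, fun v => Subsingleton.elim _ _⟩
  | succ n ih =>
    intro V W _ _ _ _ _ _ f h P hn hP hf hh hch
    by_cases hu : IsUnit P
    · exact ih f h P (by rw [Polynomial.natDegree_eq_zero_of_isUnit hu]; exact Nat.zero_le _) hP hf hh hch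
    have hP0 : P ≠ 0 := hP.ne_zero
    obtain ⟨φ, hφ, P', hPP'⟩ := WfDvdMonoid.exists_irreducible_factor hu hP0
    have hcop : IsCoprime φ P' := by
      rw [hφ.coprime_iff_not_dvd]
      rintro ⟨c, hc⟩
      exact hφ.not_isUnit (hP φ ⟨c, by rw [hPP', hc, mul_assoc]⟩)
    have hP'0 : P' ≠ 0 := by rintro rfl; exact hP0 (by rw [hPP', mul_zero])
    have hdeg : P'.natDegree ≤ n := by
      have h1 := hφ.natDegree_pos
      have h2 : P.natDegree = φ.natDegree + P'.natDegree := by rw [hPP', natDegree_mul hφ.ne_zero hP'0]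
      omega
    have hsq : Squarefree P' := hP.squarefree_of_dvd ⟨φ, by rw [hPP', mul_comm]⟩
    have compl : ∀ {U : Type u} [AddCommGroup U] [Module F U] (g : Module.End F U), aeval g P = 0 →
        IsCompl (LinearMap.ker (aeval g φ)) (LinearMap.ker (aeval g P')) := by
      intro U _ _ g hg
      refine ⟨Polynomial.disjoint_ker_aeval_of_isCoprime g hcop, ?_⟩
      rw [codisjoint_iff, Polynomial.sup_ker_aeval_eq_ker_aeval_mul_of_coprime g hcop, ← hPP', hg, LinearMap.ker_zero]
    have res : ∀ {U : Type u} [AddCommGroup U] [Module F U] (g : Module.End F U) (R : F[X]),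
        aeval (g.restrict (ker_inv g R)) R = 0 := by
      intro U _ _ g R
      apply LinearMap.ext
      intro v
      apply Subtype.ext
      rw [aeval_restrict]
      exact LinearMap.mem_ker.1 v.2
    have cf := charpoly_eq_mul f (compl f hf) (ker_inv f φ) (ker_inv f P')
    have ch := charpoly_eq_mul h (compl h hh) (ker_inv h φ) (ker_inv h P')
    obtain ⟨f1, hf1⟩ : ∃ f1, f1 = f.restrict (ker_inv f φ) := ⟨_, rfl⟩
    obtain ⟨f2, hf2⟩ : ∃ f2, f2 = f.restrict (ker_inv f P') := ⟨_, rfl⟩
    obtain ⟨h1, hh1⟩ : ∃ h1, h1 = h.restrict (ker_inv h φ) := ⟨_, rfl⟩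
    obtain ⟨h2, hh2⟩ : ∃ h2, h2 = h.restrict (ker_inv h P') := ⟨_, rfl⟩
    rw [← hf1, ← hf2] at cf
    rw [← hh1, ← hh2] at ch
    have rf1 : aeval f1 φ = 0 := by rw [hf1]; exact res f φ
    have rf2 : aeval f2 P' = 0 := by rw [hf2]; exact res f P'
    have rh1 : aeval h1 φ = 0 := by rw [hh1]; exact res h φ
    have rh2 : aeval h2 P' = 0 := by rw [hh2]; exact res h P'
    have cop : ∀ {U U' : Type u} [AddCommGroup U] [Module F U] [AddCommGroup U'] [Module F U'] [FiniteDimensional F U]
        [FiniteDimensional F U'] (a : Module.End F U) (b : Module.End F U'), aeval a φ = 0 → aeval b P' = 0 →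
        IsCoprime a.charpoly b.charpoly := by
      intro U U' _ _ _ _ _ _ a b ha hb
      apply isCoprime_of_irreducible_dvd
      · rintro ⟨h0, -⟩
        exact a.charpoly_monic.ne_zero h0
      · intro z hz hz1 hz2
        exact hz.not_isUnit (hcop.isUnit_of_dvd' (dvd_of_dvd_charpoly a hz hz1 ha) (dvd_of_dvd_charpoly b hz hz2 hb))
    have heq : f1.charpoly * f2.charpoly = h1.charpoly * h2.charpoly := by rw [← cf, ← ch, hch]
    have hdvd1 : f1.charpoly ∣ h1.charpoly := (cop f1 h2 rf1 rh2).dvd_of_dvd_mul_right ⟨f2.charpoly, heq.symm⟩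
    have hdvd2 : h1.charpoly ∣ f1.charpoly := (cop h1 f2 rh1 rf2).dvd_of_dvd_mul_right ⟨h2.charpoly, heq⟩
    have e1 : f1.charpoly = h1.charpoly :=
      Polynomial.eq_of_monic_of_associated f1.charpoly_monic h1.charpoly_monic (associated_of_dvd_dvd hdvd1 hdvd2)
    have e2 : f2.charpoly = h2.charpoly := by
      rw [e1] at heq
      exact mul_left_cancel₀ h1.charpoly_monic.ne_zero heq
    obtain ⟨ε1, hε1⟩ := exists_equiv_irred f1 h1 hφ rf1 rh1 (by
      rw [← LinearMap.charpoly_natDegree f1, ← LinearMap.charpoly_natDegree h1, e1])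
    obtain ⟨ε2, hε2⟩ := ih f2 h2 P' hdeg hsq rf2 rh2 e2
    let a := Submodule.prodEquivOfIsCompl _ _ (compl f hf)
    let b := Submodule.prodEquivOfIsCompl _ _ (compl h hh)
    refine ⟨(a.symm.trans (ε1.prodCongr ε2)).trans b, fun v => ?_⟩
    obtain ⟨⟨v1, v2⟩, rfl⟩ := a.surjective v
    have q1 : f (a (v1, v2)) = a (f1 v1, f2 v2) := by
      simp only [a, Submodule.coe_prodEquivOfIsCompl', map_add, hf1, hf2, LinearMap.coe_restrict_apply]
    have q2 : ∀ w1 w2, h (b (w1, w2)) = b (h1 w1, h2 w2) := by
      intro w1 w2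
      simp only [b, Submodule.coe_prodEquivOfIsCompl', map_add, hh1, hh2, LinearMap.coe_restrict_apply]
    rw [q1]
    simp only [LinearEquiv.trans_apply, LinearEquiv.symm_apply_apply, LinearEquiv.prodCongr_apply]
    rw [q2, hε1, hε2]

/-- **Semisimple matrices with the same characteristic polynomial are similar.** -/
theorem isConj_of_charpoly {ι : Type} [Fintype ι] [DecidableEq ι] (A B : GL ι F) (P : F[X]) (hP : Squarefree P)
    (hA : aeval (A : Matrix ι ι F) P = 0) (hB : aeval (B : Matrix ι ι F) P = 0)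
    (h : (A : Matrix ι ι F).charpoly = (B : Matrix ι ι F).charpoly) : IsConj A B := by
  have tr : ∀ M : Matrix ι ι F, aeval M P = 0 → aeval (Matrix.toLin' M) P = 0 := by
    intro M hM
    have h1 := Polynomial.aeval_algHom_apply (Matrix.toLinAlgEquiv' (R := F) (n := ι)).toAlgHom M P
    rw [hM, map_zero] at h1
    exact h1
  have ch : ∀ M : Matrix ι ι F, (Matrix.toLin' M).charpoly = M.charpoly := fun M => by
    rw [← LinearMap.charpoly_toMatrix (Matrix.toLin' M) (Pi.basisFun F ι), ← LinearMap.toMatrix'_toLin' M]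
    simp [LinearMap.toMatrix_eq_toMatrix']
  let u := ULift.moduleEquiv (R := F) (M := ι → F)
  obtain ⟨e, he⟩ := exists_equiv_aux P.natDegree (F := F) (V := ULift.{u} (ι → F)) (W := ULift.{u} (ι → F))
    (u.symm.conj (Matrix.toLin' (A : Matrix ι ι F))) (u.symm.conj (Matrix.toLin' (B : Matrix ι ι F))) P le_rfl hP
    (by
      have h1 := Polynomial.aeval_algHom_apply (u.symm.conjAlgEquiv F).toAlgHom (Matrix.toLin' (A : Matrix ι ι F)) P
      rw [tr _ hA, map_zero] at h1
      exact h1)
    (by
      have h1 := Polynomial.aeval_algHom_apply (u.symm.conjAlgEquiv F).toAlgHom (Matrix.toLin' (B : Matrix ι ι F)) P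
      rw [tr _ hB, map_zero] at h1
      exact h1)
    (by rw [LinearEquiv.charpoly_conj, LinearEquiv.charpoly_conj, ch, ch, h])
  let z : (ι → F) ≃ₗ[F] (ι → F) := (u.symm.trans e).trans u
  have hz : ∀ v, z ((A : Matrix ι ι F).mulVec v) = (B : Matrix ι ι F).mulVec (z v) := by
    intro v
    have h1 := he (u.symm v)
    have h2 : u.symm.conj (Matrix.toLin' (A : Matrix ι ι F)) (u.symm v) = u.symm ((A : Matrix ι ι F).mulVec v) := by
      rw [LinearEquiv.conj_apply_apply, LinearEquiv.symm_symm, LinearEquiv.apply_symm_apply, Matrix.toLin'_apply]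
    rw [h2, LinearEquiv.conj_apply_apply, LinearEquiv.symm_symm, Matrix.toLin'_apply] at h1
    show u (e (u.symm _)) = _
    rw [h1, LinearEquiv.apply_symm_apply]
    rfl
  let Z : GL ι F := ⟨LinearMap.toMatrix' z.toLinearMap, LinearMap.toMatrix' z.symm.toLinearMap, by
    rw [← LinearMap.toMatrix'_comp, LinearEquiv.comp_coe, LinearEquiv.symm_trans_self, LinearEquiv.refl_toLinearMap,
      LinearMap.toMatrix'_id], by
    rw [← LinearMap.toMatrix'_comp, LinearEquiv.comp_coe, LinearEquiv.self_trans_symm, LinearEquiv.refl_toLinearMap,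
      LinearMap.toMatrix'_id]⟩
  have hZ : ∀ v, (Z : Matrix ι ι F).mulVec v = z v := fun v => LinearMap.toMatrix'_mulVec z.toLinearMap v
  rw [isConj_iff]
  refine ⟨Z, ?_⟩
  rw [mul_inv_eq_iff_eq_mul]
  apply Units.ext
  show (Z : Matrix ι ι F) * (A : Matrix ι ι F) = (B : Matrix ι ι F) * Z
  apply Matrix.toLin'.injective
  apply LinearMap.ext
  intro v
  rw [Matrix.toLin'_apply, Matrix.toLin'_apply, ← Matrix.mulVec_mulVec, ← Matrix.mulVec_mulVec, hZ, hZ]
  exact hz v

end Cfsg.Agent.H193.SsConj
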