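import Mathlib
import Cfsg.Agent.GenOrth.Normal
import Cfsg.Agent.LieClassical.OmegaReindex
set_option linter.all false

/-!
# Embeddings of nondegenerate quadratic spaces over finite fields

* `exists_emb` : a nondegenerate space of even dimension embeds in every nondegenerate space of larger dimension;
* `aniso_iso` : any two anisotropic binary forms over a finite field are isometric, up to any factor;
* `minus_iso`, `plus_iso`.
-/

set_option autoImplicit false

namespace Cfsg.Agent.H193.QuadEmb

open QuadraticMap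
open Cfsg.Agent.LieClassical.OrthCore Cfsg.Agent.LieClassical.OrthTrans Cfsg.Agent.GenOrth

section

variable {F : Type*} [Field F]

theorem Q_lin {V : Type*} [AddCommGroup V] [Module F V] (Q : QuadraticForm F V) (x y : V) (a b : F) :
    Q (a • x + b • y) = a * a * Q x + b * b * Q y + a * b * polar Q x y := by
  rw [QuadraticMap.map_add ⇑Q, QuadraticMap.map_smul, QuadraticMap.map_smul, polar_smul_left, polar_smul_right]
  simp only [smul_eq_mul]
  ring

theorem exists_nonsing_pair [Finite F] {U X : Type*} [AddCommGroup U] [Module F U] [Module.Finite F U]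
    [AddCommGroup X] [Module F X] [Module.Finite F X] {P : QuadraticForm F U} {R : QuadraticForm F X}
    (hR : Nondeg R) (hU : Module.finrank F U = 2) (hX : 1 ≤ Module.finrank F X) :
    ∃ (z : U) (u : X), z ≠ 0 ∧ R u = P z := by
  obtain ⟨w, hw0, hw, -⟩ := LieClassical.OrthFinite.exists_sing_perp (Q := R.prod (-P)) (n := 0) ![] (by
    rw [Module.finrank_prod]; omega)
  obtain ⟨u, z⟩ := w
  have h1 : R u + -(P z) = 0 := by rw [← hw]; rfl
  by_cases hz : z = 0
  · rw [hz, QuadraticMap.map_zero, neg_zero, add_zero] at h1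
    have hu : u ≠ 0 := by
      rintro rfl
      exact hw0 (by rw [hz]; rfl)
    obtain ⟨y, hy⟩ := hyp_of_sing hR hu h1
    have : Nontrivial U := Module.nontrivial_of_finrank_pos (R := F) (by omega)
    obtain ⟨z', hz'⟩ := exists_ne (0 : U)
    refine ⟨z', u + (P z') • y, hz', ?_⟩
    have := Q_lin R u y 1 (P z')
    rw [one_smul, hy.left, hy.right, hy.pair] at this
    rw [this]; ring
  · exact ⟨z, u, hz, by linear_combination h1⟩

theorem emb_plane [Finite F] {U V : Type*} [AddCommGroup U] [Module F U] [Module.Finite F U]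
    [AddCommGroup V] [Module F V] [Module.Finite F V] {P : QuadraticForm F U} {Q : QuadraticForm F V}
    (hQ : Nondeg Q) (hU : Module.finrank F U = 2) (hV : 3 ≤ Module.finrank F V) :
    ∃ j : U →ₗ[F] V, ∀ x, Q (j x) = P x := by
  obtain ⟨x, y, h⟩ := exists_hyp_of_nondeg hQ hV
  have h1 := finrank_Comp (split_of_hyp h)
  obtain ⟨z, u, hz, hu⟩ := exists_nonsing_pair (P := P) (nondeg_restr hQ (split_of_hyp h)) hU (by omega)
  obtain ⟨e, he⟩ : ∃ e : U, LinearIndependent F ![z, e] := exists_linearIndependent_pair_of_one_lt_finrank (by omega) hz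
  let b := basisOfLinearIndependentOfCardEqFinrank he (by rw [hU]; rfl)
  have hb0 : b 0 = z := by simp [b]
  have hb1 : b 1 = e := by simp [b]
  -- images
  obtain ⟨h3, h4⟩ := mem_Comp.1 u.2
  have px : polar Q (u : V) x = 0 := by rw [polar_comm]; exact (split_of_hyp h).px _ h3 h4
  have py : polar Q (u : V) y = 0 := by rw [polar_comm]; exact (split_of_hyp h).py _ h3 h4
  let z' : V := (u : V) + (polar P z e) • y
  let e' : V := x + (P e) • y
  have hz' : Q z' = P z := by
    have := Q_lin Q (u : V) y 1 (polar P z e)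
    rw [one_smul, h.right, py] at this
    rw [this, ← hu]
    show _ = Q (u : V)
    ring
  have he' : Q e' = P e := by
    have := Q_lin Q x y 1 (P e)
    rw [one_smul, h.left, h.right, h.pair] at this
    rw [this]; ring
  have hze : polar Q z' e' = polar P z e := by
    show polar Q ((u : V) + (polar P z e) • y) (x + (P e) • y) = _
    rw [polar_add_left, polar_add_right, polar_add_right, polar_smul_left, polar_smul_right, px, polar_smul_right,
      polar_smul_left, py, h.pair', polar_self_of_sing h.right]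
    simp
  refine ⟨b.constr F ![z', e'], fun v => ?_⟩
  have hv : v = b.repr v 0 • z + b.repr v 1 • e := by
    conv_lhs => rw [← b.sum_repr v, Fin.sum_univ_two, hb0, hb1]
  have hjz : b.constr F ![z', e'] z = z' := by
    rw [← hb0, Module.Basis.constr_basis]; rfl
  have hje : b.constr F ![z', e'] e = e' := by
    rw [← hb1, Module.Basis.constr_basis]; rfl
  generalize b.repr v 0 = s at hv
  generalize b.repr v 1 = t at hv
  rw [hv, map_add, map_smul, map_smul, hjz, hje, Q_lin, Q_lin, hz', he', hze]

/-- a nondegenerate space of even dimension embeds in every nondegenerate space of larger dimension -/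
theorem exists_emb [Finite F] : ∀ (k : ℕ) {U V : Type*} [AddCommGroup U] [Module F U] [Module.Finite F U]
    [AddCommGroup V] [Module F V] [Module.Finite F V] {P : QuadraticForm F U} {Q : QuadraticForm F V},
    Nondeg P → Nondeg Q → Module.finrank F U = 2 * k → 2 * k + 1 ≤ Module.finrank F V →
    ∃ j : U →ₗ[F] V, ∀ x, Q (j x) = P x := by
  intro k
  induction k with
  | zero =>
    intro U V _ _ _ _ _ _ P Q _ _ hU _
    have : Subsingleton U := Module.finrank_zero_iff.1 hU
    refine ⟨0, fun x => ?_⟩
    rw [Subsingleton.elim x 0, map_zero, QuadraticMap.map_zero, QuadraticMap.map_zero]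
  | succ k ih =>
    intro U V _ _ _ _ _ _ P Q hP hQ hU hV
    by_cases hk : k = 0
    · subst hk
      exact emb_plane hQ hU hV
    · obtain ⟨x, y, h⟩ := exists_hyp_of_nondeg hP (by omega)
      obtain ⟨x', y', h'⟩ := exists_hyp_of_nondeg hQ (by omega)
      have h1 := finrank_Comp (split_of_hyp h)
      have h1' := finrank_Comp (split_of_hyp h')
      obtain ⟨j, hj⟩ := ih (nondeg_restr hP (split_of_hyp h)) (nondeg_restr hQ (split_of_hyp h')) (by omega) (by omega)
      refine ⟨(splitEquiv (split_of_hyp h')).toLinearMap ∘ₗ (j.prodMap LinearMap.id) ∘ₗ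
        (splitEquiv (split_of_hyp h)).symm.toLinearMap, fun v => ?_⟩
      obtain ⟨⟨w, a, b⟩, rfl⟩ := (splitEquiv (split_of_hyp h)).surjective v
      have e : ((splitEquiv (split_of_hyp h')).toLinearMap ∘ₗ (j.prodMap LinearMap.id) ∘ₗ
        (splitEquiv (split_of_hyp h)).symm.toLinearMap) ((splitEquiv (split_of_hyp h)) (w, a, b)) =
          splitEquiv (split_of_hyp h') (j w, a, b) := by
        simp only [LinearMap.comp_apply, LinearEquiv.coe_coe, LinearEquiv.symm_apply_apply]
        rfl
      rw [e, Q_splitEquiv, Q_splitEquiv, h.left, h.right, h.pair, h'.left, h'.right, h'.pair, ← restr_apply, hj,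
        restr_apply]

end

section Aniso

variable {F : Type*} [Field F] [Finite F]

open QuadraticAlgebra in
theorem norm_eq {a b a' b' : F} [Fact (∀ r : F, r ^ 2 ≠ a + b * r)] [Fact (∀ r : F, r ^ 2 ≠ a' + b' * r)] :
    ∃ e : QuadraticAlgebra F a b ≃ₗ[F] QuadraticAlgebra F a' b', ∀ z, (e z).norm = z.norm := by
  have hf : ∀ z : QuadraticAlgebra F a b, Algebra.norm F z = z.norm := fun z => by
    rw [← det_toLinearMap_eq_norm, Algebra.norm_apply]
    rfl
  have hf' : ∀ z : QuadraticAlgebra F a' b', Algebra.norm F z = z.norm := fun z => by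
    rw [← det_toLinearMap_eq_norm, Algebra.norm_apply]
    rfl
  have : Finite (QuadraticAlgebra F a' b') := Module.finite_of_finite F
  obtain ⟨φ⟩ := FiniteField.nonempty_algHom_of_finrank_dvd (F := F) (K := QuadraticAlgebra F a b)
    (L := QuadraticAlgebra F a' b') (by rw [finrank_eq_two, finrank_eq_two])
  have hbij : Function.Bijective φ := by
    refine ⟨φ.toRingHom.injective, ?_⟩
    exact (LinearMap.injective_iff_surjective_of_finrank_eq_finrank (f := φ.toLinearMap)
      (by rw [finrank_eq_two, finrank_eq_two])).1 φ.toRingHom.injective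
  let e := AlgEquiv.ofBijective φ hbij
  refine ⟨e.toLinearEquiv, fun z => ?_⟩
  rw [← hf, ← hf']
  exact Algebra.norm_eq_of_algEquiv e z

open QuadraticAlgebra in
theorem norm_surj {a b : F} [Fact (∀ r : F, r ^ 2 ≠ a + b * r)] (c : F) :
    ∃ z : QuadraticAlgebra F a b, z.norm = c := by
  have hf : ∀ z : QuadraticAlgebra F a b, Algebra.norm F z = z.norm := fun z => by
    rw [← det_toLinearMap_eq_norm, Algebra.norm_apply]
    rfl
  have : Finite (QuadraticAlgebra F a b) := Module.finite_of_finite F
  obtain ⟨z, hz⟩ := FiniteField.norm_surjective (K := F) (K' := QuadraticAlgebra F a b) c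
  exact ⟨z, by rw [← hf, hz]⟩

open QuadraticAlgebra in
/-- **Uniqueness of anisotropic binary forms.** -/
theorem aniso_iso {a b a' b' : F} (h : Aniso a b) (h' : Aniso a' b') {c : F} (hc : c ≠ 0) :
    ∃ e : (Fin 2 → F) ≃ₗ[F] (Fin 2 → F), ∀ z,
      (e z 0) ^ 2 + a' * e z 0 * e z 1 + b' * (e z 1) ^ 2 = c * ((z 0) ^ 2 + a * z 0 * z 1 + b * (z 1) ^ 2) := by
  have i1 : Fact (∀ r : F, r ^ 2 ≠ -b + a * r) := ⟨fun r hr => one_ne_zero (h (-r) 1 (by linear_combination hr)).2⟩
  have i2 : Fact (∀ r : F, r ^ 2 ≠ -b' + a' * r) := ⟨fun r hr => one_ne_zero (h' (-r) 1 (by linear_combination hr)).2⟩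
  obtain ⟨e, he⟩ := norm_eq (F := F) (a := -b) (b := a) (a' := -b') (b' := a')
  obtain ⟨y, hy⟩ := norm_surj (a := -b') (b := a') c
  have hy0 : y ≠ 0 := by
    rintro rfl
    rw [QuadraticAlgebra.norm_zero] at hy
    exact hc hy.symm
  let m : QuadraticAlgebra F (-b') a' ≃ₗ[F] QuadraticAlgebra F (-b') a' :=
    LinearEquiv.ofInjectiveEndo (LinearMap.mulLeft F y) (fun u v huv => mul_left_cancel₀ hy0 huv)
  have hm : ∀ z, m z = y * z := fun z => rfl
  have h1 : ∀ z : QuadraticAlgebra F (-b') a', (basis (-b') a').equivFun z = ![z.re, z.im] := fun z => rfl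
  have h2 : ∀ z : Fin 2 → F, (basis (-b) a).equivFun.symm z = ⟨z 0, z 1⟩ := fun z => by
    rw [LinearEquiv.symm_apply_eq]
    funext i
    show z i = ![z 0, z 1] i
    fin_cases i <;> rfl
  refine ⟨(basis (-b) a).equivFun.symm.trans ((e.trans m).trans (basis (-b') a').equivFun), fun z => ?_⟩
  simp only [LinearEquiv.trans_apply, h1, h2, hm, Matrix.cons_val_zero, Matrix.cons_val_one]
  have h3 := he ⟨z 0, z 1⟩
  have h4 : (y * e ⟨z 0, z 1⟩).norm = c * (e ⟨z 0, z 1⟩).norm := by rw [map_mul, hy]
  rw [h3, norm_def, norm_def] at h4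
  simp only at h4
  linear_combination h4

/-- isometries between multiples of the minus type forms -/
theorem minus_iso (k : ℕ) {a b a' b' : F} (h : Aniso a b) (h' : Aniso a' b') {c : F} (hc : c ≠ 0) :
    ∃ e : ((Fin k ⊕ Fin k) ⊕ Fin 2 → F) ≃ₗ[F] ((Fin k ⊕ Fin k) ⊕ Fin 2 → F), ∀ x,
      Cfsg.quadFormMinus k F a' b' (e x) = c * Cfsg.quadFormMinus k F a b x := by
  obtain ⟨e, he⟩ := aniso_iso h h' hc
  let f : ((Fin k ⊕ Fin k) ⊕ Fin 2 → F) →ₗ[F] ((Fin k ⊕ Fin k) ⊕ Fin 2 → F) :=
    { toFun := fun x => Sum.elim (Sum.elim (fun i => c * x (.inl (.inl i))) (fun i => x (.inl (.inr i))))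
        (e fun i => x (.inr i))
      map_add' := fun x y => by
        funext i
        rcases i with (i | i) | i
        · simp [mul_add]
        · simp
        · have : (fun i => (x + y) (.inr i)) = (fun i => x (.inr i)) + (fun i => y (.inr i)) := rfl
          show e (fun i => (x + y) (.inr i)) i = e (fun i => x (.inr i)) i + e (fun i => y (.inr i)) i
          rw [this, map_add]; rfl
      map_smul' := fun d x => by
        funext i
        rcases i with (i | i) | i
        · simp [mul_left_comm]
        · simp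
        · have : (fun i => (d • x) (.inr i)) = d • (fun i => x (.inr i)) := rfl
          show e (fun i => (d • x) (.inr i)) i = d • e (fun i => x (.inr i)) i
          rw [this, map_smul]; rfl }
  have hf1 : ∀ x i, f x (.inl (.inl i)) = c * x (.inl (.inl i)) := fun _ _ => rfl
  have hf2 : ∀ x i, f x (.inl (.inr i)) = x (.inl (.inr i)) := fun _ _ => rfl
  have hf3 : ∀ x i, f x (.inr i) = e (fun i => x (.inr i)) i := fun _ _ => rfl
  have hinj : Function.Injective f := by
    intro x y hxy
    have h3 : (fun i => x (.inr i)) = fun i => y (.inr i) := e.injective (by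
      funext i; rw [← hf3, ← hf3, hxy])
    funext i
    rcases i with (i | i) | i
    · have := congrFun hxy (.inl (.inl i))
      rw [hf1, hf1] at this
      exact mul_left_cancel₀ hc this
    · have := congrFun hxy (.inl (.inr i))
      rwa [hf2, hf2] at this
    · exact congrFun h3 i
  refine ⟨LinearEquiv.ofInjectiveEndo f hinj, fun x => ?_⟩
  rw [LinearEquiv.coe_ofInjectiveEndo]
  unfold Cfsg.quadFormMinus
  simp only [hf1, hf2, hf3]
  rw [he]
  have : ∀ i : Fin k, c * x (.inl (.inl i)) * x (.inl (.inr i)) = c * (x (.inl (.inl i)) * x (.inl (.inr i))) :=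
    fun i => by ring
  rw [Finset.sum_congr rfl fun i _ => this i, ← Finset.mul_sum]
  ring

omit [Finite F] in
/-- multiples of the plus type form are isometric to it -/
theorem plus_iso (k : ℕ) {c : F} (hc : c ≠ 0) :
    ∃ e : (Fin k ⊕ Fin k → F) ≃ₗ[F] (Fin k ⊕ Fin k → F), ∀ x,
      Cfsg.quadFormPlus k F (e x) = c * Cfsg.quadFormPlus k F x := by
  let f : (Fin k ⊕ Fin k → F) →ₗ[F] (Fin k ⊕ Fin k → F) :=
    { toFun := fun x => Sum.elim (fun i => c * x (.inl i)) (fun i => x (.inr i))
      map_add' := fun x y => by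
        funext i
        rcases i with i | i
        · simp [mul_add]
        · simp
      map_smul' := fun d x => by
        funext i
        rcases i with i | i
        · simp [mul_left_comm]
        · simp }
  have hf1 : ∀ x i, f x (.inl i) = c * x (.inl i) := fun _ _ => rfl
  have hf2 : ∀ x i, f x (.inr i) = x (.inr i) := fun _ _ => rfl
  have hinj : Function.Injective f := by
    intro x y hxy
    funext i
    rcases i with i | i
    · have := congrFun hxy (.inl i)
      rw [hf1, hf1] at this
      exact mul_left_cancel₀ hc this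
    · have := congrFun hxy (.inr i)
      rwa [hf2, hf2] at this
  refine ⟨LinearEquiv.ofInjectiveEndo f hinj, fun x => ?_⟩
  rw [LinearEquiv.coe_ofInjectiveEndo]
  unfold Cfsg.quadFormPlus
  simp only [hf1, hf2]
  rw [Finset.mul_sum]
  exact Finset.sum_congr rfl fun i _ => by ring

end Aniso

end Cfsg.Agent.H193.QuadEmb
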