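import Mathlib
set_option linter.all false

/-!
# The order of `-q` modulo a prime
-/

set_option autoImplicit false

namespace Cfsg.Agent.H193.Orders

variable {r : ℕ} [Fact r.Prime]

theorem neg_one_ne_one (hr2 : r ≠ 2) : (-1 : ZMod r) ≠ 1 := by
  have h2 : 2 < r := lt_of_le_of_ne (Nat.Prime.two_le Fact.out) (Ne.symm hr2)
  have : Fact (2 < r) := ⟨h2⟩
  exact ZMod.neg_one_ne_one

theorem orderOf_neg_one (hr2 : r ≠ 2) : orderOf (-1 : (ZMod r)ˣ) = 2 := by
  apply orderOf_eq_prime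
  · simp
  · intro h
    exact neg_one_ne_one hr2 (by simpa using congrArg Units.val h)

variable (w : (ZMod r)ˣ)

theorem orderOf_neg_of_odd (hr2 : r ≠ 2) (hw : Odd (orderOf w)) : orderOf (-w) = 2 * orderOf w := by
  have h1 : -w = (-1) * w := by simp
  rw [h1, (Commute.all (-1 : (ZMod r)ˣ) w).orderOf_mul_eq_mul_orderOf_of_coprime, orderOf_neg_one hr2]
  rw [orderOf_neg_one hr2]
  exact (Nat.coprime_two_left).2 hw

theorem pow_half {b : ℕ} (hb : orderOf w = 2 * b) (hb0 : b ≠ 0) : w ^ b = -1 := by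
  have h1 : (w ^ b) ^ 2 = 1 := by rw [← pow_mul, mul_comm, ← hb, pow_orderOf_eq_one]
  have h2 : w ^ b ≠ 1 := by
    intro h
    have := orderOf_dvd_of_pow_eq_one h
    rw [hb] at this
    have := Nat.le_of_dvd (Nat.pos_of_ne_zero hb0) this
    omega
  have h3 : ((w ^ b : (ZMod r)ˣ) : ZMod r) ^ 2 = 1 := by
    rw [← Units.val_pow_eq_pow_val, h1, Units.val_one]
  rcases sq_eq_one_iff.1 h3 with h4 | h4
  · exact absurd (Units.ext h4) h2
  · exact Units.ext (by rw [h4]; simp)

theorem orderOf_neg_of_two_mod_four {b : ℕ} (hb : orderOf w = 2 * b) (hodd : Odd b) : orderOf (-w) = b := by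
  have hb0 : b ≠ 0 := by rintro rfl; simp at hodd
  have h1 := pow_half w hb hb0
  apply Nat.dvd_antisymm
  · apply orderOf_dvd_of_pow_eq_one
    rw [hodd.neg_pow, h1, neg_neg]
  · have h2 : (w ^ (2 * orderOf (-w))) = 1 := by
      have h3 := pow_orderOf_eq_one (-w)
      have h4 : (-w) ^ (2 * orderOf (-w)) = 1 := by rw [mul_comm, pow_mul, h3, one_pow]
      rwa [Even.neg_pow (even_two_mul _)] at h4
    have h5 := orderOf_dvd_of_pow_eq_one h2
    rw [hb] at h5
    exact Nat.dvd_of_mul_dvd_mul_left two_pos h5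

theorem orderOf_neg_of_four_dvd {b : ℕ} (hr2 : r ≠ 2) (hb : orderOf w = 2 * b) (hev : Even b) :
    orderOf (-w) = 2 * b := by
  have hb0 : b ≠ 0 := by
    rintro rfl
    exact (orderOf_pos w).ne' (by rw [hb])
  have h1 := pow_half w hb hb0
  apply Nat.dvd_antisymm
  · apply orderOf_dvd_of_pow_eq_one
    rw [Even.neg_pow (even_two_mul _), ← hb, pow_orderOf_eq_one]
  · have h2 : (w ^ (2 * orderOf (-w))) = 1 := by
      have h3 := pow_orderOf_eq_one (-w)
      have h4 : (-w) ^ (2 * orderOf (-w)) = 1 := by rw [mul_comm, pow_mul, h3, one_pow]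
      rwa [Even.neg_pow (even_two_mul _)] at h4
    have h5 := orderOf_dvd_of_pow_eq_one h2
    rw [hb] at h5
    obtain ⟨l, hl⟩ := Nat.dvd_of_mul_dvd_mul_left two_pos h5
    have h6 : (-1 : (ZMod r)ˣ) ^ l = 1 := by
      have h7 := pow_orderOf_eq_one (-w)
      rw [hl, pow_mul, hev.neg_pow, h1] at h7
      exact h7
    have h8 := orderOf_dvd_of_pow_eq_one h6
    rw [orderOf_neg_one hr2] at h8
    rw [hl, mul_comm 2 b]
    exact Nat.mul_dvd_mul_left b h8

end Cfsg.Agent.H193.Orders
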