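import Mathlib
import Cfsg.Agent.H193.SsConj
set_option linter.all false

-- part: H193/Types
section
/-!
# Types of matrices of order dividing a prime `r`

`ζ` a primitive `r`-th root of unity in an algebraically closed extension `E` of the finite field `F`.
`ty ζ M c` : the multiplicity of the eigenvalue `ζ ^ c` of `M`.
-/

set_option autoImplicit false

open Polynomial

namespace Cfsg.Agent.H193.Types

universe u v

section Exp

variable {E : Type v} [Field E] {r : ℕ} [NeZero r] {ζ : E} (hζ : IsPrimitiveRoot ζ r)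

include hζ

theorem ex_add (c d : ZMod r) : ζ ^ (c + d).val = ζ ^ c.val * ζ ^ d.val := by
  rw [ZMod.val_add, ← pow_eq_pow_mod _ hζ.pow_eq_one, pow_add]

omit [NeZero r] in
theorem ex_mul (n : ℕ) (c : ZMod r) : ζ ^ ((n : ZMod r) * c).val = (ζ ^ c.val) ^ n := by
  rw [ZMod.val_mul, ← pow_eq_pow_mod _ hζ.pow_eq_one, ZMod.val_natCast, pow_mul, ← pow_eq_pow_mod _ hζ.pow_eq_one,
    ← pow_mul, ← pow_mul, mul_comm]

omit [NeZero r] in
theorem ex_pow (c : ZMod r) : (ζ ^ c.val) ^ r = 1 := by
  rw [← pow_mul, mul_comm, pow_mul, hζ.pow_eq_one, one_pow]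

theorem ex_inj {c d : ZMod r} (h : ζ ^ c.val = ζ ^ d.val) : c = d :=
  ZMod.val_injective r (hζ.pow_inj (ZMod.val_lt c) (ZMod.val_lt d) h)

theorem ex_surj {x : E} (hx : x ^ r = 1) : ∃ c : ZMod r, ζ ^ c.val = x := by
  obtain ⟨i, hi, rfl⟩ := hζ.eq_pow_of_pow_eq_one hx
  exact ⟨(i : ZMod r), by rw [ZMod.val_natCast, Nat.mod_eq_of_lt hi]⟩

theorem ex_neg (c : ZMod r) : ζ ^ (-c).val = (ζ ^ c.val)⁻¹ := by
  apply eq_inv_of_mul_eq_one_left
  rw [← ex_add hζ, neg_add_cancel, ZMod.val_zero, pow_zero]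

theorem ex_ne_zero (c : ZMod r) : ζ ^ c.val ≠ 0 := pow_ne_zero _ (hζ.ne_zero (NeZero.ne r))

end Exp

section Ty

variable {F : Type u} [Field F] {E : Type v} [Field E] [Algebra F E] {r : ℕ}
  {ι : Type} [Fintype ι] [DecidableEq ι]

/-- multiplicity of `ζ ^ c` as a root of `p` -/
noncomputable def typ (ζ : E) (p : F[X]) (c : ZMod r) : ℕ := by
  classical exact (p.map (algebraMap F E)).roots.count (ζ ^ c.val)

/-- multiplicity of the eigenvalue `ζ ^ c` of `M` -/
noncomputable def ty (ζ : E) (M : Matrix ι ι F) (c : ZMod r) : ℕ := typ ζ M.charpoly c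

theorem typ_eq_rootMultiplicity (ζ : E) (p : F[X]) (c : ZMod r) :
    typ ζ p c = (p.map (algebraMap F E)).rootMultiplicity (ζ ^ c.val) := by
  classical
  rw [typ, ← count_roots]

theorem typ_mul (ζ : E) {p p' : F[X]} (hp : p ≠ 0) (hp' : p' ≠ 0) (c : ZMod r) :
    typ ζ (p * p') c = typ ζ p c + typ ζ p' c := by
  classical
  rw [typ_eq_rootMultiplicity, typ_eq_rootMultiplicity, typ_eq_rootMultiplicity, Polynomial.map_mul,
    rootMultiplicity_mul]
  exact mul_ne_zero ((Polynomial.map_ne_zero_iff (algebraMap F E).injective).2 hp)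
    ((Polynomial.map_ne_zero_iff (algebraMap F E).injective).2 hp')

theorem charpoly_of_isConj {A B : GL ι F} (h : IsConj A B) :
    (A : Matrix ι ι F).charpoly = (B : Matrix ι ι F).charpoly := by
  obtain ⟨c, hc⟩ := isConj_iff.1 h
  rw [← hc, Units.val_mul, Units.val_mul, Matrix.coe_units_inv]
  exact (Matrix.charpoly_units_conj c (A : Matrix ι ι F)).symm

theorem ty_congr (ζ : E) {A B : GL ι F} (h : IsConj A B) :
    ty (r := r) ζ (A : Matrix ι ι F) = ty ζ (B : Matrix ι ι F) := by
  funext d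
  rw [ty, ty, charpoly_of_isConj h]

theorem ty_transpose (ζ : E) (M : Matrix ι ι F) : ty (r := r) ζ M.transpose = ty ζ M := by
  funext d
  rw [ty, ty, Matrix.charpoly_transpose]

theorem charpoly_toLin' (M : Matrix ι ι F) : (Matrix.toLin' M).charpoly = M.charpoly := by
  rw [← LinearMap.charpoly_toMatrix (Matrix.toLin' M) (Pi.basisFun F ι)]
  simp [LinearMap.toMatrix_eq_toMatrix']

theorem aeval_toLin' (M : Matrix ι ι F) (P : F[X]) (hM : aeval M P = 0) : aeval (Matrix.toLin' M) P = 0 := by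
  have h1 := Polynomial.aeval_algHom_apply (Matrix.toLinAlgEquiv' (R := F) (n := ι)).toAlgHom M P
  rw [hM, map_zero] at h1
  exact h1

theorem aeval_pow_sub_one {R : Type*} [Ring R] [Algebra F R] {M : R} (hM : M ^ r = 1) :
    aeval M (X ^ r - 1 : F[X]) = 0 := by
  rw [map_sub, map_pow, aeval_X, map_one, hM, sub_self]

theorem roots_pow {M : Matrix ι ι F} (hM : M ^ r = 1) {x : E}
    (hx : x ∈ (M.charpoly.map (algebraMap F E)).roots) : x ^ r = 1 := by
  have h1 : (M.map (algebraMap F E)).charpoly = M.charpoly.map (algebraMap F E) := Matrix.charpoly_map _ _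
  have h2 : (M.map (algebraMap F E)) ^ r = 1 := by
    have := (algebraMap F E).mapMatrix.map_pow M r
    rw [hM, map_one] at this
    exact this.symm
  have h3 : (X - C x) ∣ (Matrix.toLin' (M.map (algebraMap F E))).charpoly := by
    rw [charpoly_toLin', h1]
    exact dvd_iff_isRoot.2 (isRoot_of_mem_roots hx)
  have h4 := SsConj.dvd_of_dvd_charpoly (Matrix.toLin' (M.map (algebraMap F E))) (irreducible_X_sub_C x) h3
    (P := X ^ r - 1) (aeval_toLin' _ _ (aeval_pow_sub_one h2))
  have h5 := dvd_iff_isRoot.1 h4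
  simpa [sub_eq_zero] using h5

variable [IsAlgClosed E] [NeZero r] {ζ : E} (hζ : IsPrimitiveRoot ζ r)

include hζ

theorem natCast_ne_zero : (r : F) ≠ 0 := by
  have h1 : NeZero (r : E) := hζ.neZero'
  intro h
  apply h1.out
  rw [← map_natCast (algebraMap F E) r, h, map_zero]

theorem squarefree_X_pow_sub_one : Squarefree (X ^ r - 1 : F[X]) :=
  (X_pow_sub_one_separable_iff.2 (natCast_ne_zero hζ)).squarefree

theorem exists_exp {M : Matrix ι ι F} (hM : M ^ r = 1) :
    ∃ c : ι → ZMod r, (M.charpoly.map (algebraMap F E)) = ∏ i, (X - C (ζ ^ (c i).val)) := by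
  classical
  have h1 : (M.charpoly.map (algebraMap F E)).Splits := IsAlgClosed.splits _
  have h2 := h1.eq_prod_roots_of_monic (M.charpoly_monic.map _)
  have h3 : (M.charpoly.map (algebraMap F E)).roots.card = Fintype.card ι := by
    rw [← h1.natDegree_eq_card_roots, natDegree_map, Matrix.charpoly_natDegree_eq_dim]
  obtain ⟨d, hd⟩ : ∃ d : ι → E, Finset.univ.val.map d = (M.charpoly.map (algebraMap F E)).roots := by
    obtain ⟨l, hl⟩ : ∃ l : List E, (l : Multiset E) = (M.charpoly.map (algebraMap F E)).roots := Quot.exists_rep _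
    have hlen : l.length = Fintype.card ι := by rw [← h3, ← hl, Multiset.coe_card]
    let e : ι ≃ Fin l.length := (Fintype.equivFin ι).trans (finCongr hlen.symm)
    refine ⟨fun i => l.get (e i), ?_⟩
    rw [← hl]
    have h4 : (Finset.univ : Finset ι).val.map (fun i => l.get (e i)) =
        ((Finset.univ : Finset ι).val.map e).map l.get := by
      rw [Multiset.map_map]; rfl
    have h5 : (Finset.univ : Finset ι).val.map e = (Finset.univ : Finset (Fin l.length)).val := by
      have := Finset.map_univ_equiv e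
      rw [← this, Finset.map_val]
      rfl
    rw [h4, h5]
    simp
  have h6 : ∀ i, ∃ c : ZMod r, ζ ^ c.val = d i := fun i => by
    apply ex_surj hζ
    apply roots_pow hM
    rw [← hd]
    exact Multiset.mem_map_of_mem d (Finset.mem_univ i)
  choose c hc using h6
  refine ⟨c, ?_⟩
  rw [h2, ← hd, Multiset.map_map]
  show (∏ i, (X - C (d i))) = _
  exact Finset.prod_congr rfl fun i _ => by rw [hc]

theorem typ_of_exp {p : F[X]} {c : ι → ZMod r} (h : p.map (algebraMap F E) = ∏ i, (X - C (ζ ^ (c i).val)))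
    (d : ZMod r) : typ ζ p d = (Finset.univ.filter fun i => c i = d).card := by
  classical
  have h1 : (p.map (algebraMap F E)).roots = Finset.univ.val.map fun i => ζ ^ (c i).val := by
    rw [h]
    have h2 : (∏ i, (X - C (ζ ^ (c i).val)) : E[X]) =
        ((Finset.univ.val.map fun i => ζ ^ (c i).val).map fun a => X - C a).prod := by
      rw [Multiset.map_map]; rfl
    rw [h2, roots_multiset_prod_X_sub_C]
  rw [typ, h1, Multiset.count_map, ← Finset.filter_val, Finset.card_val]
  congr 1
  ext i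
  simp only [Finset.mem_filter, Finset.mem_univ, true_and]
  exact ⟨fun h => (ex_inj hζ h).symm, fun h => by rw [h]⟩

theorem sum_ty {M : Matrix ι ι F} (hM : M ^ r = 1) : ∑ c : ZMod r, ty ζ M c = Fintype.card ι := by
  classical
  obtain ⟨c, hc⟩ := exists_exp hζ hM
  simp only [ty, typ_of_exp hζ hc]
  rw [← Finset.card_univ]
  exact (Finset.card_eq_sum_card_fiberwise (f := c) (s := Finset.univ) (t := Finset.univ) fun i _ =>
    Finset.mem_coe.2 (Finset.mem_univ _)).symm

theorem charpoly_eq_of_ty {M N : Matrix ι ι F} (hM : M ^ r = 1) (hN : N ^ r = 1) (h : ty (r := r) ζ M = ty ζ N) :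
    M.charpoly = N.charpoly := by
  classical
  have h1 : (M.charpoly.map (algebraMap F E)).Splits := IsAlgClosed.splits _
  have h2 : (N.charpoly.map (algebraMap F E)).Splits := IsAlgClosed.splits _
  apply Polynomial.map_injective _ (algebraMap F E).injective
  rw [h1.eq_prod_roots_of_monic (M.charpoly_monic.map _), h2.eq_prod_roots_of_monic (N.charpoly_monic.map _)]
  congr 2
  ext x
  by_cases hx : x ^ r = 1
  · obtain ⟨c, rfl⟩ := ex_surj hζ hx
    have := congrFun h c
    rw [ty, ty, typ, typ] at this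
    exact this
  · rw [Multiset.count_eq_zero_of_notMem, Multiset.count_eq_zero_of_notMem]
    · exact fun h => hx (roots_pow hN h)
    · exact fun h => hx (roots_pow hM h)

/-- **Conjugacy is decided by the type.** -/
theorem isConj_iff_ty {A B : GL ι F} (hA : A ^ r = 1) (hB : B ^ r = 1) :
    IsConj A B ↔ ty (r := r) ζ (A : Matrix ι ι F) = ty ζ (B : Matrix ι ι F) := by
  refine ⟨fun h => ty_congr ζ h, fun h => ?_⟩
  have hA' : (A : Matrix ι ι F) ^ r = 1 := by rw [← Units.val_pow_eq_pow_val, hA, Units.val_one]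
  have hB' : (B : Matrix ι ι F) ^ r = 1 := by rw [← Units.val_pow_eq_pow_val, hB, Units.val_one]
  exact SsConj.isConj_of_charpoly A B (X ^ r - 1) (squarefree_X_pow_sub_one hζ) (aeval_pow_sub_one hA')
    (aeval_pow_sub_one hB') (charpoly_eq_of_ty hζ hA' hB' h)

theorem ty_inv {A : GL ι F} (hA : A ^ r = 1) (d : ZMod r) :
    ty ζ ((A⁻¹ : GL ι F) : Matrix ι ι F) d = ty ζ (A : Matrix ι ι F) (-d) := by
  classical
  have hA' : (A : Matrix ι ι F) ^ r = 1 := by rw [← Units.val_pow_eq_pow_val, hA, Units.val_one]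
  obtain ⟨c, hc⟩ := exists_exp hζ hA'
  let D : GL ι E := ⟨Matrix.diagonal fun i => ζ ^ (c i).val, Matrix.diagonal fun i => (ζ ^ (c i).val)⁻¹, by
    rw [Matrix.diagonal_mul_diagonal, ← Matrix.diagonal_one]
    congr 1; funext i; exact mul_inv_cancel₀ (ex_ne_zero hζ _), by
    rw [Matrix.diagonal_mul_diagonal, ← Matrix.diagonal_one]
    congr 1; funext i; exact inv_mul_cancel₀ (ex_ne_zero hζ _)⟩
  have hDr : D ^ r = 1 := by
    apply Units.ext
    rw [Units.val_pow_eq_pow_val]
    show (Matrix.diagonal fun i => ζ ^ (c i).val) ^ r = 1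
    rw [Matrix.diagonal_pow, ← Matrix.diagonal_one]
    congr 1; funext i; exact ex_pow hζ _
  let AE : GL ι E := Matrix.GeneralLinearGroup.map (algebraMap F E) A
  have hAE : AE ^ r = 1 := by
    show (Matrix.GeneralLinearGroup.map (algebraMap F E) A) ^ r = 1
    rw [← map_pow, hA, map_one]
  have hAEc : (AE : Matrix ι ι E).charpoly = ((A : Matrix ι ι F).charpoly.map (algebraMap F E)) :=
    Matrix.charpoly_map (A : Matrix ι ι F) (algebraMap F E)
  have hconj : IsConj AE D := by
    have hAE' : (AE : Matrix ι ι E) ^ r = 1 := by rw [← Units.val_pow_eq_pow_val, hAE, Units.val_one]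
    have hD' : (D : Matrix ι ι E) ^ r = 1 := by rw [← Units.val_pow_eq_pow_val, hDr, Units.val_one]
    refine SsConj.isConj_of_charpoly AE D (X ^ r - 1) (squarefree_X_pow_sub_one hζ) (aeval_pow_sub_one hAE')
      (aeval_pow_sub_one hD') ?_
    rw [hAEc, hc]
    exact (Matrix.charpoly_diagonal _).symm
  have hinv : IsConj AE⁻¹ D⁻¹ := by
    obtain ⟨x, hx⟩ := isConj_iff.1 hconj
    exact isConj_iff.2 ⟨x, by rw [← hx]; group⟩
  have hAinv : ((AE⁻¹ : GL ι E) : Matrix ι ι E) = ((A⁻¹ : GL ι F) : Matrix ι ι F).map (algebraMap F E) := by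
    show (((Matrix.GeneralLinearGroup.map (algebraMap F E) A)⁻¹ : GL ι E) : Matrix ι ι E) = _
    rw [← map_inv]
    rfl
  have hch : ((A⁻¹ : GL ι F) : Matrix ι ι F).charpoly.map (algebraMap F E) = ∏ i, (X - C (ζ ^ (-(c i)).val)) := by
    rw [← Matrix.charpoly_map, ← hAinv]
    have h1 : ((D⁻¹ : GL ι E) : Matrix ι ι E) = Matrix.diagonal fun i => (ζ ^ (c i).val)⁻¹ := rfl
    rw [charpoly_of_isConj hinv, h1]
    rw [Matrix.charpoly_diagonal]
    exact Finset.prod_congr rfl fun i _ => by rw [ex_neg hζ]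
  rw [ty, ty, typ_of_exp hζ hch, typ_of_exp hζ hc]
  congr 1
  ext i
  simp only [Finset.mem_filter, Finset.mem_univ, true_and]
  exact neg_eq_iff_eq_neg

omit [IsAlgClosed E] in
theorem typ_frob [Fintype F] (p : F[X]) (c : ZMod r) : typ ζ p ((Fintype.card F : ZMod r) * c) = typ ζ p c := by
  rw [typ_eq_rootMultiplicity, typ_eq_rootMultiplicity]
  let φ : E →ₐ[F] E := FiniteField.frobeniusAlgHom F E
  have h1 : (p.map (algebraMap F E)).map (φ : E →+* E) = p.map (algebraMap F E) := by
    rw [Polynomial.map_map]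
    congr 1
    exact φ.comp_algebraMap
  have h2 := Polynomial.eq_rootMultiplicity_map (p := p.map (algebraMap F E)) (f := (φ : E →+* E))
    (φ : E →+* E).injective (ζ ^ c.val)
  rw [h1] at h2
  rw [h2, ex_mul hζ]
  rfl

end Ty

end Cfsg.Agent.H193.Types
end

-- part: H193/Count
section
/-!
# Counting functions on `ZMod r` invariant under a unit

`card_inv` : the number of `a : ZMod r → ℕ` with `a (u * c) = a c` and `∑ a = n` is `C(n/e + k, k)`, `e = orderOf u`,
`k = (r - 1) / e`; `card_inv_zero` : those with `a 0 = 0`.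
-/

set_option autoImplicit false

namespace Cfsg.Agent.H193.Count

theorem card_sum_eq (α : Type) [Fintype α] [DecidableEq α] (n : ℕ) :
    Nat.card {b : α → ℕ // ∑ i, b i = n} = (Fintype.card α + n - 1).choose n := by
  rw [← Nat.card_congr (Sym.equivNatSumOfFintype α n), Nat.card_eq_fintype_card, Sym.card_sym_eq_choose]

theorem card_sum_le (α : Type) [Fintype α] [DecidableEq α] (n : ℕ) :
    Nat.card {b : α → ℕ // ∑ i, b i ≤ n} = (n + Fintype.card α).choose (Fintype.card α) := by
  have e : {b : α → ℕ // ∑ i, b i ≤ n} ≃ {b : Option α → ℕ // ∑ i, b i = n} :=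
    { toFun := fun b => ⟨fun o => o.elim (n - ∑ i, b.1 i) b.1, by
        rw [Fintype.sum_option]
        show (n - ∑ i, b.1 i) + ∑ i, b.1 i = n
        exact Nat.sub_add_cancel b.2⟩
      invFun := fun b => ⟨fun i => b.1 (some i), by
        have := b.2
        rw [Fintype.sum_option] at this
        exact (Nat.le_add_left _ _).trans this.le⟩
      left_inv := fun b => rfl
      right_inv := fun b => by
        apply Subtype.ext
        funext o
        cases o with
        | none =>
          have := b.2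
          rw [Fintype.sum_option] at this
          show n - ∑ i, b.1 (some i) = b.1 none
          omega
        | some i => rfl }
  rw [Nat.card_congr e, card_sum_eq, Fintype.card_option]
  have h1 : Fintype.card α + 1 + n - 1 = n + Fintype.card α := by omega
  rw [h1, Nat.choose_symm_add]

variable {r : ℕ} [Fact r.Prime] (u : (ZMod r)ˣ)

/-- orbits of nonzero residues -/
abbrev Orb := (ZMod r)ˣ ⧸ Subgroup.zpowers u

noncomputable instance instFintypeOrb : Fintype (Orb u) := Fintype.ofFinite _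

theorem card_Orb : Fintype.card (Orb u) * orderOf u = r - 1 := by
  rw [← Nat.card_eq_fintype_card, ← Nat.card_zpowers, ← Subgroup.card_eq_card_quotient_mul_card_subgroup,
    Nat.card_eq_fintype_card, ZMod.card_units]

theorem card_Orb' : Fintype.card (Orb u) = (r - 1) / orderOf u := by
  rw [← card_Orb u, Nat.mul_div_cancel _ (orderOf_pos u)]

/-- sum over the units of a function on the orbits -/
theorem sum_units (b : Orb u → ℕ) : ∑ v : (ZMod r)ˣ, b (QuotientGroup.mk v) = orderOf u * ∑ o, b o := by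
  classical
  let e := Subgroup.groupEquivQuotientProdSubgroup (s := Subgroup.zpowers u)
  have h1 : ∀ v : (ZMod r)ˣ, (e v).1 = QuotientGroup.mk v := fun v => rfl
  have : Fintype (Subgroup.zpowers u) := Fintype.ofFinite _
  calc ∑ v : (ZMod r)ˣ, b (QuotientGroup.mk v) = ∑ v : (ZMod r)ˣ, b (e v).1 := rfl
    _ = ∑ x : Orb u × Subgroup.zpowers u, b x.1 := Fintype.sum_equiv e _ _ fun v => rfl
    _ = ∑ o : Orb u, ∑ _h : Subgroup.zpowers u, b o := Fintype.sum_prod_type _
    _ = orderOf u * ∑ o, b o := by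
      rw [Finset.mul_sum]
      refine Finset.sum_congr rfl fun o _ => ?_
      rw [Finset.sum_const, Finset.card_univ, smul_eq_mul, ← Nat.card_eq_fintype_card, Nat.card_zpowers]

/-- invariant functions -/
def Inv (a : ZMod r → ℕ) : Prop := ∀ c, a (u * c) = a c

theorem Inv.zpow {a : ZMod r → ℕ} (ha : Inv u a) (k : ℤ) (c : ZMod r) : a (((u ^ k : (ZMod r)ˣ) : ZMod r) * c) = a c := by
  induction k using Int.induction_on with
  | zero => simp
  | succ k ih => rw [zpow_add_one, mul_comm (u ^ (k : ℤ)) u, Units.val_mul, mul_assoc, ha, ih]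
  | pred k ih =>
    rw [← ih, ← ha (((u ^ (-(k : ℤ) - 1) : (ZMod r)ˣ) : ZMod r) * c), ← mul_assoc, ← Units.val_mul, ← zpow_one_add]
    congr 3
    ring_nf

theorem sum_zmod (a : ZMod r → ℕ) : ∑ c, a c = a 0 + ∑ v : (ZMod r)ˣ, a v := by
  classical
  rw [← Finset.add_sum_erase Finset.univ a (Finset.mem_univ 0)]
  congr 1
  symm
  refine Finset.sum_bij (fun v _ => (v : ZMod r)) (fun v _ => Finset.mem_erase.2 ⟨v.ne_zero, Finset.mem_univ _⟩)
    (fun v _ w _ h => Units.ext h) (fun c hc => ⟨Units.mk0 c (Finset.mem_erase.1 hc).1, Finset.mem_univ _, rfl⟩)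
    (fun v _ => rfl)

/-- invariant functions are functions on the orbits and a value at `0` -/
noncomputable def invEquiv : {a : ZMod r → ℕ // Inv u a} ≃ ℕ × (Orb u → ℕ) where
  toFun a := ⟨a.1 0, fun o => Quotient.liftOn' o (fun v => a.1 v) (by
    intro v w hvw
    rw [QuotientGroup.leftRel_apply] at hvw
    obtain ⟨k, hk⟩ := Subgroup.mem_zpowers_iff.1 hvw
    have h1 : w = v * u ^ k := by rw [hk]; group
    show a.1 v = a.1 w
    rw [h1, mul_comm, Units.val_mul, Inv.zpow u a.2])⟩
  invFun p := by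
    classical
    exact ⟨fun c => if h : c = 0 then p.1 else p.2 (QuotientGroup.mk (Units.mk0 c h)), by
      intro c
      by_cases h : c = 0
      · simp [h]
      · have h' : (u : ZMod r) * c ≠ 0 := mul_ne_zero u.ne_zero h
        simp only [h, h', dite_false]
        have h3 : (QuotientGroup.mk (Units.mk0 ((u : ZMod r) * c) h') : Orb u) = QuotientGroup.mk (Units.mk0 c h) := by
          rw [QuotientGroup.eq]
          refine Subgroup.mem_zpowers_iff.2 ⟨-1, ?_⟩
          rw [zpow_neg_one]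
          have h2 : Units.mk0 ((u : ZMod r) * c) h' = Units.mk0 c h * u := Units.ext (mul_comm _ _)
          rw [h2]
          group
        exact congrArg p.2 h3⟩
  left_inv a := by
    apply Subtype.ext
    funext c
    by_cases h : c = 0
    · simp [h]
    · simp only [h, dite_false]
      rfl
  right_inv p := by
    refine Prod.ext (by simp) ?_
    funext o
    induction o using QuotientGroup.induction_on with
    | H v =>
      show (if h : (v : ZMod r) = 0 then p.1 else p.2 (QuotientGroup.mk (Units.mk0 (v : ZMod r) h))) = _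
      rw [dif_neg v.ne_zero]
      exact congrArg (fun w => p.2 (QuotientGroup.mk w)) (Units.ext rfl)

theorem invEquiv_fst (a : {a : ZMod r → ℕ // Inv u a}) : (invEquiv u a).1 = a.1 0 := rfl

theorem invEquiv_snd (a : {a : ZMod r → ℕ // Inv u a}) (v : (ZMod r)ˣ) : (invEquiv u a).2 (QuotientGroup.mk v) = a.1 v :=
  rfl

theorem sum_invEquiv (a : {a : ZMod r → ℕ // Inv u a}) :
    ∑ c, a.1 c = (invEquiv u a).1 + orderOf u * ∑ o, (invEquiv u a).2 o := by
  rw [← sum_units, sum_zmod]
  rfl

theorem sum_units_inv (a : {a : ZMod r → ℕ // Inv u a}) :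
    ∑ v : (ZMod r)ˣ, a.1 v = orderOf u * ∑ o, (invEquiv u a).2 o := by
  rw [← sum_units]
  rfl

/-- number of invariant functions with sum `n` -/
theorem card_inv (n : ℕ) : Nat.card {a : ZMod r → ℕ // Inv u a ∧ ∑ c, a c = n} =
    (n / orderOf u + (r - 1) / orderOf u).choose ((r - 1) / orderOf u) := by
  classical
  have hpos : 0 < orderOf u := orderOf_pos u
  have e : {a : ZMod r → ℕ // Inv u a ∧ ∑ c, a c = n} ≃ {b : Orb u → ℕ // ∑ o, b o ≤ n / orderOf u} :=
    { toFun := fun a => ⟨(invEquiv u ⟨a.1, a.2.1⟩).2, by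
        rw [Nat.le_div_iff_mul_le hpos]
        have h1 := sum_invEquiv u ⟨a.1, a.2.1⟩
        have h2 : ∑ c, a.1 c = n := a.2.2
        rw [mul_comm]
        have h3 : n = (invEquiv u ⟨a.1, a.2.1⟩).1 + orderOf u * ∑ o, (invEquiv u ⟨a.1, a.2.1⟩).2 o := h2.symm.trans h1
        exact (Nat.le_add_left _ _).trans h3.symm.le⟩
      invFun := fun b => ⟨((invEquiv u).symm (n - orderOf u * ∑ o, b.1 o, b.1)).1,
        ((invEquiv u).symm (n - orderOf u * ∑ o, b.1 o, b.1)).2, by
          rw [sum_invEquiv u ((invEquiv u).symm (n - orderOf u * ∑ o, b.1 o, b.1)), Equiv.apply_symm_apply]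
          have h1 := b.2
          rw [Nat.le_div_iff_mul_le hpos, mul_comm] at h1
          exact Nat.sub_add_cancel h1⟩
      left_inv := fun a => by
        apply Subtype.ext
        show ((invEquiv u).symm (n - orderOf u * ∑ o, (invEquiv u ⟨a.1, a.2.1⟩).2 o, (invEquiv u ⟨a.1, a.2.1⟩).2)).1 = a.1
        have h1 := sum_invEquiv u ⟨a.1, a.2.1⟩
        have h2 : ∑ c, a.1 c = n := a.2.2
        have h3 : (n - orderOf u * ∑ o, (invEquiv u ⟨a.1, a.2.1⟩).2 o, (invEquiv u ⟨a.1, a.2.1⟩).2) =
            invEquiv u ⟨a.1, a.2.1⟩ := by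
          refine Prod.ext ?_ rfl
          show n - orderOf u * ∑ o, (invEquiv u ⟨a.1, a.2.1⟩).2 o = (invEquiv u ⟨a.1, a.2.1⟩).1
          change ∑ c, a.1 c = _ at h1
          omega
        rw [h3, Equiv.symm_apply_apply]
      right_inv := fun b => by
        apply Subtype.ext
        show (invEquiv u ((invEquiv u).symm (n - orderOf u * ∑ o, b.1 o, b.1))).2 = b.1
        rw [Equiv.apply_symm_apply] }
  rw [Nat.card_congr e, card_sum_le, card_Orb']

/-- number of invariant functions with sum `n` and `a 0 = 0` -/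
theorem card_inv_zero (n : ℕ) : Nat.card {a : ZMod r → ℕ // Inv u a ∧ ∑ c, a c = n ∧ a 0 = 0} =
    if orderOf u ∣ n then ((r - 1) / orderOf u + n / orderOf u - 1).choose (n / orderOf u) else 0 := by
  classical
  have hpos : 0 < orderOf u := orderOf_pos u
  have e : {a : ZMod r → ℕ // Inv u a ∧ ∑ c, a c = n ∧ a 0 = 0} ≃ {b : Orb u → ℕ // orderOf u * ∑ o, b o = n} :=
    { toFun := fun a => ⟨(invEquiv u ⟨a.1, a.2.1⟩).2, by
        have h1 := sum_invEquiv u ⟨a.1, a.2.1⟩
        have h2 : ∑ c, a.1 c = n := a.2.2.1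
        have h3 : (invEquiv u ⟨a.1, a.2.1⟩).1 = 0 := a.2.2.2
        rw [h3, zero_add] at h1
        exact h1.symm.trans h2⟩
      invFun := fun b => ⟨((invEquiv u).symm (0, b.1)).1, ((invEquiv u).symm (0, b.1)).2, by
          rw [sum_invEquiv u ((invEquiv u).symm (0, b.1)), Equiv.apply_symm_apply]
          exact (Nat.zero_add _).trans b.2, by
          have := invEquiv_fst u ((invEquiv u).symm (0, b.1))
          rw [Equiv.apply_symm_apply] at this
          exact this.symm⟩
      left_inv := fun a => by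
        apply Subtype.ext
        show ((invEquiv u).symm (0, (invEquiv u ⟨a.1, a.2.1⟩).2)).1 = a.1
        have h3 : (0, (invEquiv u ⟨a.1, a.2.1⟩).2) = invEquiv u ⟨a.1, a.2.1⟩ := by
          refine Prod.ext ?_ rfl
          exact a.2.2.2.symm
        rw [h3, Equiv.symm_apply_apply]
      right_inv := fun b => by
        apply Subtype.ext
        show (invEquiv u ((invEquiv u).symm (0, b.1))).2 = b.1
        rw [Equiv.apply_symm_apply] }
  rw [Nat.card_congr e]
  split_ifs with hdvd
  · obtain ⟨m, rfl⟩ := hdvd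
    have h1 : ∀ b : Orb u → ℕ, (orderOf u * ∑ o, b o = orderOf u * m) ↔ ∑ o, b o = m := fun b =>
      ⟨fun h => Nat.eq_of_mul_eq_mul_left hpos h, fun h => by rw [h]⟩
    rw [Nat.card_congr (Equiv.subtypeEquivRight h1), card_sum_eq, card_Orb', Nat.mul_div_cancel_left _ hpos]
  · have : IsEmpty {b : Orb u → ℕ // orderOf u * ∑ o, b o = n} := ⟨fun b => hdvd ⟨_, b.2.symm⟩⟩
    exact Nat.card_of_isEmpty

theorem finite_inv (n : ℕ) : Finite {a : ZMod r → ℕ // Inv u a ∧ ∑ c, a c = n} := by
  have h1 : Set.Finite {a : ZMod r → ℕ | ∀ c, a c ∈ Set.Iic n} := by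
    have := Set.Finite.pi (ι := ZMod r) (fun _ => Set.finite_Iic n)
    refine this.subset fun a ha => ?_
    exact fun c _ => ha c
  exact (h1.subset fun a (ha : Inv u a ∧ ∑ c, a c = n) c => by
    show a c ≤ n
    rw [← ha.2]
    exact Finset.single_le_sum (fun _ _ => Nat.zero_le _) (Finset.mem_univ c)).to_subtype

end Cfsg.Agent.H193.Count
end

-- part: H193/Realise
section
/-!
# Realisation of types by matrices over a finite field

`exists_of_type` : every `q`-invariant `a : ZMod r → ℕ` with sum `n` is the type of a matrix `M` of size `n` over `F`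
with `M ^ r = 1`.
-/

set_option autoImplicit false

open Polynomial

namespace Cfsg.Agent.H193.Realise

open Cfsg.Agent.H193.Types Cfsg.Agent.H193.Count

universe u v

variable {F : Type u} [Field F] [Fintype F] {E : Type v} [Field E] [Algebra F E] {r : ℕ}
  [IsAlgClosed E] [Fact r.Prime] {ζ : E} (hζ : IsPrimitiveRoot ζ r) (w : (ZMod r)ˣ)
  (hw : (w : ZMod r) = (Fintype.card F : ZMod r))

include hζ

theorem typ_one_matrix (n : ℕ) (d : ZMod r) :
    ty ζ (1 : Matrix (Fin n) (Fin n) F) d = if d = 0 then n else 0 := by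
  classical
  have h1 : (1 : Matrix (Fin n) (Fin n) F).charpoly.map (algebraMap F E) =
      ∏ _i : Fin n, (X - C (ζ ^ ((fun _ => (0 : ZMod r)) (_i : Fin n)).val)) := by
    rw [← Matrix.charpoly_map, Matrix.map_one _ (map_zero _) (map_one _), ← Matrix.diagonal_one,
      Matrix.charpoly_diagonal]
    simp
  rw [ty, typ_of_exp hζ h1]
  split_ifs with hd
  · simp [hd]
  · simp [Ne.symm hd]

include hw

/-- the degree of the minimal polynomial of `ζ ^ c` -/
theorem natDegree_minpoly {c : ZMod r} (hc : c ≠ 0) : (minpoly F (ζ ^ c.val)).natDegree = orderOf w := by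
  obtain ⟨p, hp⟩ := CharP.exists F
  obtain ⟨f, hpp, hcard⟩ := FiniteField.card F p
  have : Fact p.Prime := ⟨hpp⟩
  have hrF : (r : F) ≠ 0 := natCast_ne_zero hζ
  have hcop : p.Coprime r := by
    rw [hpp.coprime_iff_not_dvd]
    intro h
    exact hrF ((CharP.cast_eq_zero_iff F p r).2 h)
  have hprim : IsPrimitiveRoot (ζ ^ c.val) r := by
    apply hζ.pow_of_coprime
    have h1 := (ZMod.isUnit_iff_coprime c.val r).1 (by
      rw [ZMod.natCast_zmod_val]
      exact (Units.mk0 c hc).isUnit)
    exact h1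
  have hint : IsIntegral F (ζ ^ c.val) := ⟨X ^ r - 1, monic_X_pow_sub_C 1 (NeZero.ne r), by
    simp [ex_pow hζ]⟩
  have hd : minpoly F (ζ ^ c.val) ∣ cyclotomic r F := by
    apply minpoly.dvd
    rw [aeval_def, ← eval_map, map_cyclotomic]
    exact hprim.isRoot_cyclotomic (Nat.Prime.pos Fact.out)
  rw [natDegree_of_dvd_cyclotomic_of_irreducible hcard hcop hd (minpoly.irreducible hint)]
  congr 1
  apply Units.ext
  rw [hw, ZMod.coe_unitOfCoprime, hcard]

omit [IsAlgClosed E] in
theorem typ_pow (p : F[X]) (k : ℕ) (c : ZMod r) : typ ζ p (((w ^ k : (ZMod r)ˣ) : ZMod r) * c) = typ ζ p c := by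
  induction k with
  | zero => simp
  | succ k ih => rw [pow_succ', Units.val_mul, mul_assoc, hw, typ_frob hζ, ih]

/-- the matrix of a block -/
theorem exists_block {c : ZMod r} (hc : c ≠ 0) :
    ∃ C : Matrix (Fin (orderOf w)) (Fin (orderOf w)) F, C ^ r = 1 ∧
      (∀ k : ℕ, ty ζ C (((w ^ k : (ZMod r)ˣ) : ZMod r) * c) = 1) ∧
      (∀ d, (∀ k : ℕ, d ≠ ((w ^ k : (ZMod r)ˣ) : ZMod r) * c) → ty ζ C d = 0) := by
  classical
  have hint : IsIntegral F (ζ ^ c.val) := ⟨X ^ r - 1, monic_X_pow_sub_C 1 (NeZero.ne r), by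
    simp [ex_pow hζ]⟩
  obtain ⟨μ, hμ⟩ : ∃ μ, μ = minpoly F (ζ ^ c.val) := ⟨_, rfl⟩
  have hmon : μ.Monic := hμ ▸ minpoly.monic hint
  have hirr : Irreducible μ := hμ ▸ minpoly.irreducible hint
  have hdeg : μ.natDegree = orderOf w := hμ ▸ natDegree_minpoly hζ w hw hc
  have : Fact (Irreducible μ) := ⟨hirr⟩
  let pb := AdjoinRoot.powerBasis hirr.ne_zero
  have hdim : pb.dim = orderOf w := by
    rw [← hdeg]; rfl
  let C0 : Matrix (Fin pb.dim) (Fin pb.dim) F := Algebra.leftMulMatrix pb.basis pb.gen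
  have hC0 : C0.charpoly = μ := by
    have h1 := charpoly_leftMulMatrix pb
    rw [AdjoinRoot.minpoly_powerBasis_gen_of_monic hmon] at h1
    exact h1
  have hC0r : C0 ^ r = 1 := by
    show (Algebra.leftMulMatrix pb.basis pb.gen) ^ r = 1
    have h1 : pb.gen ^ r = 1 := by
      have h2 : μ ∣ X ^ r - 1 := by
        rw [hμ]
        apply minpoly.dvd
        simp [ex_pow hζ]
      have h3 : AdjoinRoot.mk μ (X ^ r - 1) = 0 := AdjoinRoot.mk_eq_zero.2 h2
      rw [map_sub, map_pow, map_one, AdjoinRoot.mk_X] at h3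
      exact sub_eq_zero.1 h3
    rw [← map_pow, h1, map_one]
  have key : ∀ (n : ℕ) (hn : pb.dim = n), ∃ C : Matrix (Fin n) (Fin n) F, C ^ r = 1 ∧ C.charpoly = μ := by
    rintro _ rfl
    exact ⟨C0, hC0r, hC0⟩
  obtain ⟨C, hCr, hC⟩ := key _ hdim
  refine ⟨C, hCr, ?_⟩
  have hpos : 1 ≤ ty ζ C c := by
    rw [ty, typ_eq_rootMultiplicity, hC, Nat.succ_le_iff, rootMultiplicity_pos]
    · rw [hμ, IsRoot, eval_map]
      exact minpoly.aeval F (ζ ^ c.val)
    · exact (Polynomial.map_ne_zero_iff (algebraMap F E).injective).2 hirr.ne_zero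
  have hinv : ∀ k : ℕ, ty ζ C (((w ^ k : (ZMod r)ˣ) : ZMod r) * c) = ty ζ C c := fun k => typ_pow hζ w hw _ k c
  have hsum := sum_ty hζ hCr
  rw [Fintype.card_fin] at hsum
  -- the orbit
  let O : Finset (ZMod r) := (Finset.range (orderOf w)).image fun k => ((w ^ k : (ZMod r)ˣ) : ZMod r) * c
  have hOcard : O.card = orderOf w := by
    rw [Finset.card_image_of_injOn, Finset.card_range]
    intro k hk l hl hkl
    have h1 : ((w ^ k : (ZMod r)ˣ) : ZMod r) = ((w ^ l : (ZMod r)ˣ) : ZMod r) := mul_right_cancel₀ hc hkl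
    exact pow_injOn_Iio_orderOf (by simpa using hk) (by simpa using hl) (Units.ext h1)
  have hOsum : ∑ d ∈ O, ty ζ C d = orderOf w * ty ζ C c := by
    rw [Finset.sum_const_nat (m := ty ζ C c), hOcard]
    intro d hd
    obtain ⟨k, _, rfl⟩ := Finset.mem_image.1 hd
    exact hinv k
  have hsplit := Finset.sum_add_sum_compl O (fun d => ty ζ C d)
  have hw0 : 0 < orderOf w := orderOf_pos w
  have hc1 : ty ζ C c = 1 := by
    have h1 : orderOf w * ty ζ C c ≤ orderOf w * 1 := by
      rw [← hOsum, mul_one]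
      calc _ ≤ ∑ d, ty ζ C d := by rw [← hsplit]; exact Nat.le_add_right _ _
        _ = _ := hsum
    exact le_antisymm (Nat.le_of_mul_le_mul_left h1 hw0) hpos
  refine ⟨fun k => by rw [hinv, hc1], fun d hd => ?_⟩
  have hcompl : ∑ d ∈ Oᶜ, ty ζ C d = 0 := by
    rw [hOsum, hc1, hsum] at hsplit
    omega
  apply Finset.sum_eq_zero_iff.1 hcompl d
  rw [Finset.mem_compl]
  intro hdO
  obtain ⟨k, _, hk⟩ := Finset.mem_image.1 hdO
  exact hd k hk.symm

/-- **Every `q`-invariant function is a type.** -/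
theorem exists_of_type (n : ℕ) : ∀ (a : ZMod r → ℕ), Inv w a → ∑ c, a c = n →
    ∃ M : Matrix (Fin n) (Fin n) F, M ^ r = 1 ∧ ty ζ M = a := by
  classical
  induction n using Nat.strong_induction_on with
  | _ n ih =>
    intro a ha hsum
    by_cases h0 : ∀ c, c ≠ 0 → a c = 0
    · refine ⟨1, one_pow r, ?_⟩
      funext d
      rw [typ_one_matrix hζ]
      have h1 : a 0 = n := by
        rw [← hsum, Fintype.sum_eq_single 0 h0]
      split_ifs with hd
      · rw [hd, h1]
      · rw [h0 d hd]
    · push Not at h0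
      obtain ⟨c, hc, hac⟩ := h0
      obtain ⟨C, hCr, hC1, hC0⟩ := exists_block hζ w hw hc
      have hpw : ∀ (k : ℕ), a (((w ^ k : (ZMod r)ˣ) : ZMod r) * c) = a c := fun k => by
        have := Inv.zpow w ha (k : ℤ) c
        rwa [zpow_natCast] at this
      have hle : ∀ d, ty ζ C d ≤ a d := by
        intro d
        by_cases hd : ∃ k : ℕ, d = ((w ^ k : (ZMod r)ˣ) : ZMod r) * c
        · obtain ⟨k, rfl⟩ := hd
          rw [hC1, hpw]
          omega
        · push Not at hd
          rw [hC0 d hd]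
          exact Nat.zero_le _
      have hsC := sum_ty hζ hCr
      rw [Fintype.card_fin] at hsC
      have hw0 : 0 < orderOf w := orderOf_pos w
      have hs' : ∑ d, (a d - ty ζ C d) = n - orderOf w := by
        rw [Finset.sum_tsub_distrib _ fun d _ => hle d, hsum, hsC]
      have hon : orderOf w ≤ n := by
        rw [← hsC, ← hsum]
        exact Finset.sum_le_sum fun d _ => hle d
      obtain ⟨M', hM'r, hM'⟩ := ih (n - orderOf w) (by omega) (fun d => a d - ty ζ C d) (by
        intro d
        show a ((w : ZMod r) * d) - ty ζ C ((w : ZMod r) * d) = a d - ty ζ C d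
        have h1 : ty ζ C ((w : ZMod r) * d) = ty ζ C d := by
          have := typ_pow hζ w hw C.charpoly 1 d
          rwa [pow_one] at this
        rw [ha, h1]) hs'
      have hcast : (n - orderOf w) + orderOf w = n := Nat.sub_add_cancel hon
      let e : Fin (n - orderOf w) ⊕ Fin (orderOf w) ≃ Fin n := finSumFinEquiv.trans (finCongr hcast)
      refine ⟨Matrix.reindex e e (Matrix.fromBlocks M' 0 0 C), ?_, ?_⟩
      · have h1 : Matrix.reindex e e (Matrix.fromBlocks M' 0 0 C) = Matrix.reindexAlgEquiv F F e (Matrix.fromBlocks M' 0 0 C) := rfl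
        rw [h1, ← map_pow, Matrix.fromBlocks_diagonal_pow, hM'r, hCr, Matrix.fromBlocks_one, map_one]
      · funext d
        rw [ty, Matrix.charpoly_reindex, Matrix.charpoly_fromBlocks_zero₂₁,
          typ_mul ζ M'.charpoly_monic.ne_zero C.charpoly_monic.ne_zero]
        show ty ζ M' d + ty ζ C d = a d
        rw [hM']
        exact Nat.sub_add_cancel (hle d)

end Cfsg.Agent.H193.Realise
end
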