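import Mathlib
import Cfsg.Agent.H193.RealForm
import Cfsg.Agent.H193.QuadEmb
set_option linter.all false

/-!
# Realisation of types in orthogonal groups over finite fields
-/

set_option autoImplicit false

open Polynomial

namespace Cfsg.Agent.H193.OrthReal

open Cfsg.Agent.H193.Types Cfsg.Agent.H193.Count Cfsg.Agent.H193.Realise Cfsg.Agent.H193.RealForm
open QuadraticMap
open Cfsg.Agent.LieClassical.OrthCore Cfsg.Agent.GenOrth

universe u v

variable {F : Type u} [Field F]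

section Basic

theorem nondegenerate_of {V : Type*} [AddCommGroup V] [Module F V] {Q : QuadraticForm F V} (h : Nondeg Q) :
    (polarBilin Q).Nondegenerate :=
  ⟨fun x hx => h x hx, fun y hy => h y fun z => by rw [polar_comm]; exact hy z⟩

variable {ι : Type} [Fintype ι] [DecidableEq ι]

/-- constructing elements of the isometry group -/
theorem exists_mem {E : Type v} [Field E] [Algebra F E] {r : ℕ} [Fact r.Prime] (ζ : E)
    (Q : QuadraticForm F (ι → F)) {V : Type*} [AddCommGroup V] [Module F V]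
    [FiniteDimensional F V] (e : (ι → F) ≃ₗ[F] V) (G : V ≃ₗ[F] V) (hG : (G.toLinearMap : Module.End F V) ^ r = 1)
    (hQG : ∀ v, Q (e.symm (G v)) = Q (e.symm v)) :
    ∃ g : ↥(Cfsg.isometryGroup F ⇑Q), g ^ r = 1 ∧
      ∀ c : ZMod r, ty ζ ((g : GL ι F) : Matrix ι ι F) c = typ ζ G.toLinearMap.charpoly c := by
  obtain ⟨N, hN, hty, he⟩ := exists_matrix ζ e G hG
  refine ⟨⟨N, OrthConj.mem_isometryGroup.2 fun v => ?_⟩, Subtype.ext ?_, hty⟩
  · have h1 := hQG (e v)
    rw [← he, LinearEquiv.symm_apply_apply, LinearEquiv.symm_apply_apply] at h1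
    exact h1
  · rw [SubmonoidClass.coe_pow]
    exact hN

theorem pow_matrix (Q : (ι → F) → F) {r : ℕ} {g : ↥(Cfsg.isometryGroup F Q)} (hg : g ^ r = 1) :
    ((g : GL ι F) : Matrix ι ι F) ^ r = 1 := by
  rw [← Units.val_pow_eq_pow_val, ← SubmonoidClass.coe_pow, hg]
  rfl

end Basic

section

variable [Fintype F] {E : Type v} [Field E] [Algebra F E] {r : ℕ}
  [IsAlgClosed E] [Fact r.Prime] {ζ : E} (hζ : IsPrimitiveRoot ζ r)

include hζ

theorem exists_space (w : (ZMod r)ˣ) (hw : (w : ZMod r) = (Fintype.card F : ZMod r)) (hr2 : r ≠ 2) {n : ℕ}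
    {a : ZMod r → ℕ} (ha : Inv w a) (hs : ∀ c, a (-c) = a c) (h0 : a 0 = 0) (hn : ∑ c, a c = n) :
    ∃ (g : (Fin n → F) ≃ₗ[F] (Fin n → F)) (P : QuadraticForm F (Fin n → F)),
      (g.toLinearMap : Module.End F (Fin n → F)) ^ r = 1 ∧ (∀ c : ZMod r, typ ζ g.toLinearMap.charpoly c = a c) ∧
      Nondeg P ∧ (∀ v, P (g v) = P v) ∧ ∀ v, g (g v) = v → v = 0 := by
  obtain ⟨g, b, hg, hgty, hbn, hbg, hfix⟩ := exists_bilin hζ w hw hr2 ha hs h0 hn
  obtain ⟨B, hBn, hBs, hBg⟩ := InvForm.exists_form b hbn 1 (by ring) g hbg hfix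
  obtain ⟨P, hP, hPg⟩ := InvForm.exists_quad B (fun u v => by rw [hBs, one_mul]) g hBg hfix
  refine ⟨g, P, hg, hgty, fun u hu => hBn u fun v => ?_, hPg, hfix⟩
  rw [← hP]
  exact hu v

/-- types with `a 0 ≠ 0` are realised in every nondegenerate space -/
theorem realise_pos (w : (ZMod r)ˣ) (hw : (w : ZMod r) = (Fintype.card F : ZMod r)) (hr2 : r ≠ 2)
    {ι : Type} [Fintype ι] [DecidableEq ι] (Q : QuadraticForm F (ι → F)) (hQ : Nondeg Q)
    {a : ZMod r → ℕ} (ha : Inv w a) (hs : ∀ c, a (-c) = a c) (h0 : a 0 ≠ 0) (hn : ∑ c, a c = Fintype.card ι) :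
    ∃ g : ↥(Cfsg.isometryGroup F ⇑Q), g ^ r = 1 ∧ ty ζ ((g : GL ι F) : Matrix ι ι F) = a := by
  classical
  obtain ⟨a', ha'⟩ : ∃ a' : ZMod r → ℕ, a' = Function.update a 0 0 := ⟨_, rfl⟩
  have ha'0 : a' 0 = 0 := by rw [ha']; simp
  have ha'1 : ∀ c, c ≠ 0 → a' c = a c := fun c hc => by rw [ha']; simp [hc]
  have inv' : Inv w a' := fun c => by
    by_cases hc : c = 0
    · rw [hc, mul_zero]
    · rw [ha'1 _ (mul_ne_zero w.ne_zero hc), ha'1 c hc, ha]
  have symm' : ∀ c, a' (-c) = a' c := fun c => by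
    by_cases hc : c = 0
    · rw [hc, neg_zero]
    · rw [ha'1 _ (neg_ne_zero.2 hc), ha'1 c hc, hs]
  obtain ⟨n, hn'⟩ : ∃ n, n = ∑ c, a' c := ⟨_, rfl⟩
  have hsum : n + a 0 = Fintype.card ι := by
    rw [hn', ← hn, sum_zmod a, sum_zmod a', ha'0]
    have : ∑ v : (ZMod r)ˣ, a' v = ∑ v : (ZMod r)ˣ, a v := Finset.sum_congr rfl fun v _ => ha'1 _ v.ne_zero
    omega
  obtain ⟨k, hk⟩ := even_sum hr2 symm' ha'0
  obtain ⟨g, P, hg, hgty, hP, hPg, -⟩ := exists_space hζ w hw hr2 inv' symm' ha'0 hn'.symm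
  obtain ⟨j, hj⟩ := QuadEmb.exists_emb k hP hQ (by rw [Module.finrank_fin_fun]; omega)
    (by rw [Module.finrank_fintype_fun_eq_card]; omega)
  let e : Emb Q P := ofLin j 1 one_ne_zero (fun x => by rw [hj, one_mul]) hP
  have hej : ∀ x, Q (e.j x) = P x := hj
  let W := LinearMap.ker e.π
  let b := (Module.finBasis F W).equivFun
  -- the decomposition
  let D : ((Fin n → F) × W) ≃ₗ[F] (ι → F) :=
    { toFun := fun p => e.j p.1 + p.2
      invFun := fun v => (e.π v, ⟨v - e.j (e.π v), by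
        rw [LinearMap.mem_ker, map_sub, e.π_j, sub_self]⟩)
      left_inv := by
        rintro ⟨x, w, hw⟩
        have h1 : e.π (e.j x + w) = x := by rw [map_add, e.π_j, LinearMap.mem_ker.1 hw, add_zero]
        refine Prod.ext h1 (Subtype.ext ?_)
        show e.j x + w - e.j (e.π (e.j x + w)) = w
        rw [h1]; abel
      right_inv := fun v => by
        show e.j (e.π v) + (v - e.j (e.π v)) = v
        abel
      map_add' := by
        rintro ⟨x, w⟩ ⟨x', w'⟩
        show e.j (x + x') + ((w + w' : W) : ι → F) = e.j x + w + (e.j x' + w')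
        rw [map_add, Submodule.coe_add]; abel
      map_smul' := by
        rintro c ⟨x, w⟩
        show e.j (c • x) + ((c • w : W) : ι → F) = c • (e.j x + w)
        rw [map_smul, Submodule.coe_smul, smul_add] }
  have hD : ∀ x (w : W), D (x, w) = e.j x + w := fun _ _ => rfl
  have hQD : ∀ x (w : W), Q (D (x, w)) = P x + Q w := fun x w => by
    rw [hD, QuadraticMap.map_add ⇑Q, hej, e.adj, LinearMap.mem_ker.1 w.2, polar_zero_right, mul_zero, add_zero]
  let D' : (ι → F) ≃ₗ[F] ((Fin n → F) × (Fin (Module.finrank F W) → F)) :=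
    D.symm.trans ((LinearEquiv.refl F _).prodCongr b)
  let G : ((Fin n → F) × (Fin (Module.finrank F W) → F)) ≃ₗ[F] ((Fin n → F) × (Fin (Module.finrank F W) → F)) :=
    g.prodCongr (LinearEquiv.refl F _)
  have hGm : G.toLinearMap = g.toLinearMap.prodMap LinearMap.id := rfl
  have hGr : (G.toLinearMap : Module.End F _) ^ r = 1 := by
    apply LinearMap.ext
    rintro ⟨u, v⟩
    have h1 : ∀ k : ℕ, ((G.toLinearMap : Module.End F _) ^ k) (u, v) =
        (((g.toLinearMap : Module.End F _) ^ k) u, v) := by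
      intro k
      induction k with
      | zero => rfl
      | succ k ih => rw [OrthConj.pow_apply_succ, ih, OrthConj.pow_apply_succ]; rfl
    rw [h1, hg]
    rfl
  have hD' : ∀ x w, D'.symm (x, w) = D (x, b.symm w) := fun x w => rfl
  obtain ⟨N, hN, hNty⟩ := exists_mem ζ Q D' G hGr (by
    rintro ⟨x, w⟩
    show Q (D'.symm (g x, w)) = Q (D'.symm (x, w))
    rw [hD', hD', hQD, hQD, hPg])
  refine ⟨N, hN, ?_⟩
  have hdim := D'.finrank_eq
  rw [Module.finrank_prod, Module.finrank_fin_fun, Module.finrank_fin_fun,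
    Module.finrank_fintype_fun_eq_card] at hdim
  funext c
  rw [hNty, hGm, LinearMap.charpoly_prodMap, typ_mul ζ (LinearMap.charpoly_monic _).ne_zero
      (LinearMap.charpoly_monic _).ne_zero, hgty, typ_id hζ]
  by_cases hc : c = 0
  · rw [if_pos hc, hc, ha'0, Fintype.card_fin]
    omega
  · rw [if_neg hc, ha'1 c hc, add_zero]

/-- an element with full type comes from the model -/
theorem exists_iso_model {ι : Type} [Fintype ι] [DecidableEq ι] (hr2 : r ≠ 2)
    (Q : QuadraticForm F (ι → F)) (hQ : Nondeg Q)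
    (A : ↥(Cfsg.isometryGroup F ⇑Q)) (hA : A ^ r = 1) (h0 : ty ζ ((A : GL ι F) : Matrix ι ι F) (0 : ZMod r) = 0)
    {V : Type*} [AddCommGroup V] [Module F V] [FiniteDimensional F V] (hV : Module.finrank F V = Fintype.card ι)
    (g : V ≃ₗ[F] V) (P : QuadraticForm F V)
    (hg : (g.toLinearMap : Module.End F V) ^ r = 1)
    (hgty : ∀ c : ZMod r, typ ζ g.toLinearMap.charpoly c = ty ζ ((A : GL ι F) : Matrix ι ι F) c)
    (hP : Nondeg P) (hPg : ∀ v, P (g v) = P v) :
    ∃ z : (ι → F) ≃ₗ[F] V, ∀ v, P (z v) = Q v := by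
  have e : (ι → F) ≃ₗ[F] V := LinearEquiv.ofFinrankEq _ _ (by rw [hV, Module.finrank_fintype_fun_eq_card])
  obtain ⟨N, hN, hNty, hNe⟩ := exists_matrix ζ e g hg
  have hA' : (A : GL ι F) ^ r = 1 := by rw [← SubmonoidClass.coe_pow, hA]; rfl
  have hconj : IsConj (A : GL ι F) N := by
    rw [isConj_iff_ty hζ hA' hN]
    funext c
    rw [hNty, hgty]
  obtain ⟨c, hc⟩ := hconj
  let toLE : GL ι F → ((ι → F) ≃ₗ[F] (ι → F)) := fun M =>
    Matrix.toLin'OfInv (M' := (M : Matrix ι ι F)) (M := ((M⁻¹ : GL ι F) : Matrix ι ι F)) M.inv_mul M.mul_inv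
  have hto : ∀ M v, toLE M v = (M : Matrix ι ι F).mulVec v := fun M v => Matrix.toLin'_apply _ v
  have hA1 : ∀ v, Q (toLE A v) = Q v := fun v => by
    rw [hto]; exact OrthConj.mem_isometryGroup.1 A.2 v
  have hAr : ((toLE A).toLinearMap : Module.End F (ι → F)) ^ r = 1 := by
    have : (toLE A).toLinearMap = Matrix.toLin' ((A : GL ι F) : Matrix ι ι F) := LinearMap.ext fun v => hto _ v
    rw [this, ← Matrix.toLin'_pow, pow_matrix _ hA, Matrix.toLin'_one]
    rfl
  have hAty : typ ζ (toLE A).toLinearMap.charpoly (0 : ZMod r) = 0 := by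
    have : (toLE A).toLinearMap = Matrix.toLin' ((A : GL ι F) : Matrix ι ι F) := LinearMap.ext fun v => hto _ v
    rw [this, charpoly_toLin']
    exact h0
  obtain ⟨z, -, hz⟩ := InvForm.exists_isometry_quad Q P (nondegenerate_of hQ)
    (nondegenerate_of hP) (toLE A) g hA1 hPg (no_fixed hζ (toLE A) hr2 hAr hAty) ((toLE c.val).trans e) (fun v => by
      show e (toLE c.val (toLE A v)) = g (e (toLE c.val v))
      rw [hto, hto, hto, ← hNe, Matrix.mulVec_mulVec, Matrix.mulVec_mulVec, ← Units.val_mul, ← Units.val_mul]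
      congr 3
      )
  exact ⟨z, hz⟩

omit hζ in
/-- the number of singular vectors modulo `r` -/
theorem card_sing {ι : Type} [Fintype ι] [DecidableEq ι]
    (Q : QuadraticForm F (ι → F)) (A : ↥(Cfsg.isometryGroup F ⇑Q)) (hA : A ^ r = 1)
    (h0 : ty ζ ((A : GL ι F) : Matrix ι ι F) (0 : ZMod r) = 0) :
    ((Nat.card {v : ι → F // Q v = 0} : ℕ) : ZMod r) = 1 := by
  classical
  have hAQ : ∀ v, Q (((A : GL ι F) : Matrix ι ι F).mulVec v) = Q v := OrthConj.mem_isometryGroup.1 A.2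
  have hAr := pow_matrix _ hA
  obtain ⟨M, hM⟩ : ∃ M, M = ((A : GL ι F) : Matrix ι ι F) := ⟨_, rfl⟩
  rw [← hM] at hAQ hAr h0
  let f : Function.End {v : ι → F // Q v = 0} := fun v => ⟨M.mulVec v.1, by rw [hAQ]; exact v.2⟩
  have hfk : ∀ (k : ℕ) (v : {v : ι → F // Q v = 0}), ((f ^ k) v).1 = (M ^ k).mulVec v.1 := by
    intro k
    induction k with
    | zero => intro v; rw [pow_zero, pow_zero, Matrix.one_mulVec]; rfl
    | succ k ih =>
      intro v
      rw [pow_succ', pow_succ', ← Matrix.mulVec_mulVec, ← ih]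
      rfl
  have hf : f ^ r ^ 1 = 1 := by
    funext v
    apply Subtype.ext
    rw [pow_one, hfk, hAr, Matrix.one_mulVec]
    rfl
  have h1 := Equiv.Perm.card_fixedPoints_modEq hf
  have hfix : ∀ v : ι → F, M.mulVec v = v → v = 0 := by
    intro v hv
    by_contra hne
    have h2 : Module.End.HasEigenvector (Matrix.toLin' M) (1 : F) v :=
      ⟨Module.End.mem_eigenspace_iff.2 (by rw [one_smul, Matrix.toLin'_apply]; exact hv), hne⟩
    have h3 := (Module.End.hasEigenvalue_iff_isRoot_charpoly (Matrix.toLin' M) (1 : F)).1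
      (Module.End.hasEigenvalue_of_hasEigenvector h2)
    rw [ty, ← charpoly_toLin', typ_eq_rootMultiplicity] at h0
    have h4 : ((Matrix.toLin' M).charpoly.map (algebraMap F E)) ≠ 0 :=
      (Polynomial.map_ne_zero_iff (algebraMap F E).injective).2 (Matrix.toLin' M).charpoly_monic.ne_zero
    have h5 := (rootMultiplicity_pos h4 (x := ζ ^ (0 : ZMod r).val)).2 (by
      rw [ZMod.val_zero, pow_zero, ← map_one (algebraMap F E)]
      exact h3.map)
    omega
  have h6 : Fintype.card f.fixedPoints = 1 := by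
    rw [Fintype.card_eq_one_iff]
    refine ⟨⟨⟨0, QuadraticMap.map_zero Q⟩, Subtype.ext (Matrix.mulVec_zero M)⟩, ?_⟩
    rintro ⟨⟨v, hv⟩, hv'⟩
    apply Subtype.ext
    apply Subtype.ext
    exact hfix v (congrArg Subtype.val hv')
  rw [h6] at h1
  rw [Nat.card_eq_fintype_card]
  have h7 := (ZMod.natCast_eq_natCast_iff _ _ r).2 h1
  rw [h7, Nat.cast_one]

omit hζ [IsAlgClosed E] [Algebra F E] [Field E] [Fintype F] in
/-- symmetric types are sums `b + b∘neg` with `b` invariant if `w` has odd order -/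
theorem exists_half (w : (ZMod r)ˣ) (hr2 : r ≠ 2) (hodd : Odd (orderOf w)) {a : ZMod r → ℕ} (ha : Inv w a)
    (hs : ∀ c, a (-c) = a c) (h0 : a 0 = 0) :
    ∃ b : ZMod r → ℕ, Inv w b ∧ ∀ c, a c = b c + b (-c) := by
  classical
  let q := (ZMod r)ˣ ⧸ Subgroup.zpowers w
  let φ : (ZMod r)ˣ → ℕ := fun c => (Fintype.equivFin q (QuotientGroup.mk c)).val
  have hφ : ∀ c d, φ c = φ d ↔ (QuotientGroup.mk c : q) = QuotientGroup.mk d := fun c d =>
    ⟨fun h => (Fintype.equivFin q).injective (Fin.ext h), fun h => congrArg (fun x => (Fintype.equivFin q x).val) h⟩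
  have hne : ∀ c, φ c ≠ φ (-c) := by
    intro c h
    rw [hφ, QuotientGroup.eq, Subgroup.mem_zpowers_iff] at h
    obtain ⟨k, hk⟩ := h
    have h1 : w ^ k = -1 := by rw [hk]; simp
    have h2 : ((-1 : (ZMod r)ˣ)) ^ orderOf w = 1 := by
      rw [← h1, ← zpow_natCast, ← zpow_mul, mul_comm, zpow_mul, zpow_natCast, pow_orderOf_eq_one, one_zpow]
    rw [hodd.neg_one_pow] at h2
    have h3 : Fact (2 < r) := ⟨lt_of_le_of_ne (Nat.Prime.two_le Fact.out) (Ne.symm hr2)⟩
    exact ZMod.neg_one_ne_one (n := r) (by have := congrArg Units.val h2; simpa using this)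
  have hw : ∀ c, φ (w * c) = φ c := by
    intro c
    rw [hφ, QuotientGroup.eq, Subgroup.mem_zpowers_iff]
    exact ⟨-1, by simp⟩
  refine ⟨fun c => if h : c = 0 then 0 else if φ (Units.mk0 c h) < φ (-Units.mk0 c h) then a c else 0, fun c => ?_,
    fun c => ?_⟩
  · beta_reduce
    by_cases h : c = 0
    · rw [dif_pos h, dif_pos (by rw [h, mul_zero])]
    · have h' : (w : ZMod r) * c ≠ 0 := mul_ne_zero w.ne_zero h
      have e1 : Units.mk0 _ h' = w * Units.mk0 c h := Units.ext rfl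
      rw [dif_neg h, dif_neg h', e1, ← mul_neg, hw, hw, ha c]
  · beta_reduce
    by_cases h : c = 0
    · have h' : -c = 0 := by rw [h, neg_zero]
      rw [dif_pos h, dif_pos h', h, h0]
    · have h' : -c ≠ 0 := neg_ne_zero.2 h
      have e1 : Units.mk0 _ h' = - Units.mk0 c h := Units.ext rfl
      rw [dif_neg h, dif_neg h', e1, neg_neg, hs]
      rcases lt_or_gt_of_ne (hne (Units.mk0 c h)) with h1 | h1
      · rw [if_pos h1, if_neg (not_lt.2 h1.le), add_zero]
      · rw [if_neg (not_lt.2 h1.le), if_pos h1, zero_add]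

/-- full types in the plus type group for `q` of odd order modulo `r` -/
theorem realise_plus (w : (ZMod r)ˣ) (hw : (w : ZMod r) = (Fintype.card F : ZMod r)) (hr2 : r ≠ 2)
    (hodd : Odd (orderOf w)) {a : ZMod r → ℕ} (ha : Inv w a)
    (hs : ∀ c, a (-c) = a c) (h0 : a 0 = 0) (m : ℕ) (hn : ∑ c, a c = 2 * m) :
    ∃ g : ↥(Cfsg.isometryGroup F ⇑(LieClassical.OmegaReindex.quadPlus m F)), g ^ r = 1 ∧
      ty ζ g.1.val = a := by
  obtain ⟨b, hb, hab⟩ := exists_half w hr2 hodd ha hs h0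
  have hbm : ∑ c, b c = m := by
    have h1 : ∑ c, b (-c) = ∑ c, b c := Fintype.sum_equiv (Equiv.neg (ZMod r)) _ _ fun _ => rfl
    have h2 : ∑ c, a c = ∑ c, b c + ∑ c, b (-c) := by
      rw [← Finset.sum_add_distrib]
      exact Finset.sum_congr rfl fun c _ => hab c
    omega
  obtain ⟨M, hM, hMb⟩ := exists_of_type hζ w hw m b hb hbm
  have hu : IsUnit M := IsUnit.of_pow_eq_one hM (NeZero.ne r)
  obtain ⟨U, rfl⟩ := hu
  have hUr : U ^ r = 1 := Units.ext (by rw [Units.val_pow_eq_pow_val, hM, Units.val_one])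
  let N : Matrix (Fin m ⊕ Fin m) (Fin m ⊕ Fin m) F :=
    Matrix.fromBlocks U.val 0 0 ((U⁻¹).val).transpose
  have hN : ∀ k : ℕ, N ^ k = Matrix.fromBlocks (U ^ k).val 0 0 (((U⁻¹) ^ k).val).transpose := by
    intro k
    induction k with
    | zero => simp
    | succ k ih =>
      rw [pow_succ, ih, Matrix.fromBlocks_multiply]
      simp only [Matrix.mul_zero, Matrix.zero_mul, add_zero, zero_add]
      rw [pow_succ, Units.val_mul, pow_succ' U⁻¹, Units.val_mul, Matrix.transpose_mul]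
  have hNr : N ^ r = 1 := by
    rw [hN, inv_pow, hUr]
    simp
  have hNu : IsUnit N := IsUnit.of_pow_eq_one hNr (NeZero.ne r)
  have hmem : hNu.unit ∈ Cfsg.isometryGroup F ⇑(LieClassical.OmegaReindex.quadPlus m F) := by
    rw [OrthConj.mem_isometryGroup]
    intro v
    rw [LieClassical.OmegaReindex.coe_quadPlus]
    obtain ⟨x, y, rfl⟩ : ∃ x y : Fin m → F, v = Sum.elim x y := ⟨v ∘ Sum.inl, v ∘ Sum.inr, (Sum.elim_comp_inl_inr v).symm⟩
    have h1 : ∀ x y : Fin m → F, Cfsg.quadFormPlus m F (Sum.elim x y) = y ⬝ᵥ x := fun x y => by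
      unfold Cfsg.quadFormPlus
      exact Finset.sum_congr rfl fun i _ => mul_comm _ _
    rw [IsUnit.unit_spec, Matrix.fromBlocks_mulVec, h1]
    simp only [Sum.elim_comp_inl, Sum.elim_comp_inr, Matrix.zero_mulVec, add_zero, zero_add]
    rw [h1, Matrix.mulVec_transpose, ← Matrix.dotProduct_mulVec, Matrix.mulVec_mulVec, ← Units.val_mul, inv_mul_cancel,
      Units.val_one, Matrix.one_mulVec]
  refine ⟨⟨hNu.unit, hmem⟩, Subtype.ext (Units.ext ?_), ?_⟩
  · rw [SubmonoidClass.coe_pow, Units.val_pow_eq_pow_val]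
    exact hNr
  · funext c
    show ty ζ N c = a c
    rw [hab, ty, Matrix.charpoly_fromBlocks_zero₁₂, typ_mul ζ (Matrix.charpoly_monic _).ne_zero
      (Matrix.charpoly_monic _).ne_zero, ← hMb]
    congr 1
    show ty ζ ((U⁻¹).val).transpose c = _
    rw [ty_transpose, ty_inv hζ hUr]

end

end Cfsg.Agent.H193.OrthReal
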