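import Mathlib
import Cfsg.Agent.H193.OrthReal
import Cfsg.Agent.H193.ClassCount
import Cfsg.Agent.S0289
import Cfsg.Agent.S0290
set_option linter.all false

/-!
# Classes of elements of odd prime order of orthogonal groups
-/

set_option autoImplicit false

open Polynomial

namespace Cfsg.Agent.H193.OrthCount

open Cfsg.Agent.H193.Types Cfsg.Agent.H193.Count Cfsg.Agent.H193.Realise Cfsg.Agent.H193.ClassCount
  Cfsg.Agent.H193.RealForm Cfsg.Agent.H193.OrthReal
open QuadraticMap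
open Cfsg.Agent.LieClassical.OrthCore Cfsg.Agent.GenOrth Cfsg.Agent.LieClassical.OmegaReindex

universe u v

section Inv

variable {r : ℕ} [Fact r.Prime] (w : (ZMod r)ˣ)

theorem finite_full (n : ℕ) : Finite {a : ZMod r → ℕ // Inv w a ∧ ∑ c, a c = n ∧ a 0 = 0} := by
  have := finite_inv w n
  exact Finite.of_injective (fun a : {a : ZMod r → ℕ // Inv w a ∧ ∑ c, a c = n ∧ a 0 = 0} =>
    (⟨a.1, a.2.1, a.2.2.1⟩ : {a : ZMod r → ℕ // Inv w a ∧ ∑ c, a c = n})) fun a b h => Subtype.ext (by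
      have h1 := congrArg Subtype.val h
      exact h1)

theorem dvd_of_full {n : ℕ} {a : ZMod r → ℕ} (ha : Inv w a) (hn : ∑ c, a c = n) (h0 : a 0 = 0) : orderOf w ∣ n := by
  by_contra h
  have h1 := card_inv_zero w n
  rw [if_neg h] at h1
  have := finite_full w n
  have h2 : Nonempty {a : ZMod r → ℕ // Inv w a ∧ ∑ c, a c = n ∧ a 0 = 0} := ⟨⟨a, ha, hn, h0⟩⟩
  exact (Nat.card_pos).ne' h1

theorem card_types (n : ℕ) (bad : Prop) [Decidable bad] :
    Nat.card {a : ZMod r → ℕ | Inv w a ∧ ∑ c, a c = n ∧ (a 0 = 0 → ¬ bad)} =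
      (n / orderOf w + (r - 1) / orderOf w).choose ((r - 1) / orderOf w) -
        if bad then (if orderOf w ∣ n then ((r - 1) / orderOf w + n / orderOf w - 1).choose (n / orderOf w) else 0)
        else 0 := by
  classical
  by_cases hb : bad
  · rw [if_pos hb, ← card_inv w n, ← card_inv_zero w n]
    have := finite_inv w n
    have h1 : {a : ZMod r → ℕ | Inv w a ∧ ∑ c, a c = n ∧ (a 0 = 0 → ¬ bad)} =
        {a : ZMod r → ℕ | Inv w a ∧ ∑ c, a c = n} \ {a : ZMod r → ℕ | Inv w a ∧ ∑ c, a c = n ∧ a 0 = 0} := by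
      ext a
      simp only [Set.mem_ofPred_eq, Set.mem_sdiff, hb]
      tauto
    rw [h1]
    have hfin : ({a : ZMod r → ℕ | Inv w a ∧ ∑ c, a c = n}).Finite := this
    exact Set.ncard_sdiff (fun a ha => ⟨ha.1, ha.2.1⟩) (hfin.subset fun a ha => ⟨ha.1, ha.2.1⟩)
  · rw [if_neg hb, Nat.sub_zero, ← card_inv w n]
    refine Nat.card_congr (Equiv.subtypeEquivRight fun a => ?_)
    show Inv w a ∧ ∑ c, a c = n ∧ (a 0 = 0 → ¬ bad) ↔ _
    tauto

end Inv

section

variable {F : Type u} [Field F] [Fintype F] {E : Type v} [Field E] [Algebra F E] {r : ℕ}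
  [IsAlgClosed E] [Fact r.Prime] {ζ : E} (hζ : IsPrimitiveRoot ζ r)

include hζ

theorem symm_of_mem {ι : Type} [Fintype ι] [DecidableEq ι] (Q : QuadraticForm F (ι → F)) (hQ : Nondeg Q)
    (g : ↥(Cfsg.isometryGroup F ⇑Q)) (hg : g ^ r = 1) (c : ZMod r) :
    ty ζ g.1.val (-c) = ty ζ g.1.val c :=
  ty_symm hζ (pow_matrix _ hg) (polarBilin Q) (fun u hu => hQ u hu)
    (ClassicalGeometry.WittQuad.polar_map Q (fun v => g.1.val.mulVec v) (fun _ _ => Matrix.mulVec_add _ _ _)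
      (OrthConj.mem_isometryGroup.1 g.2)) c

theorem orth_count (w : (ZMod r)ˣ) (hw : (w : ZMod r) = (Fintype.card F : ZMod r)) (hr2 : r ≠ 2)
    (hrF : (r : F) ≠ 0)
    {ι : Type} [Fintype ι] [DecidableEq ι] (Q : QuadraticForm F (ι → F)) (hQ : Nondeg Q)
    (n : ℕ) (hn : Fintype.card ι = n) (bad : Prop) [Decidable bad]
    (hbad : ∀ a : ZMod r → ℕ, Inv w a → (∀ c, a (-c) = a c) → ∑ c, a c = n → a 0 = 0 → orderOf (gen w) ∣ n →
      ((∃ g : ↥(Cfsg.isometryGroup F ⇑Q), g ^ r = 1 ∧ ty ζ g.1.val = a) ↔ ¬ bad)) :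
    Nat.card {C : ConjClasses ↥(Cfsg.isometryGroup F ⇑Q) //
      ∃ g : ↥(Cfsg.isometryGroup F ⇑Q), ConjClasses.mk g = C ∧ orderOf g = r} =
      (n / orderOf (gen w) + (r - 1) / orderOf (gen w)).choose ((r - 1) / orderOf (gen w)) -
        (if bad then (if orderOf (gen w) ∣ n then
          ((r - 1) / orderOf (gen w) + n / orderOf (gen w) - 1).choose (n / orderOf (gen w)) else 0) else 0) - 1 := by
  have hr : r.Prime := Fact.out
  rw [card_classes hr (fun g : ↥(Cfsg.isometryGroup F ⇑Q) => ty (r := r) ζ g.1.val)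
    {a | Inv (gen w) a ∧ ∑ c, a c = n ∧ (a 0 = 0 → ¬ bad)} (fun g h hg hh => ?_) (fun a => ?_)]
  · rw [card_types]
  · rw [OrthConj.isConj_iff Q (nondegenerate_of hQ) g h (hr.odd_of_ne_two hr2) hrF hg hh]
    have hg' : (g : GL ι F) ^ r = 1 := by rw [← SubmonoidClass.coe_pow, hg]; rfl
    have hh' : (h : GL ι F) ^ r = 1 := by rw [← SubmonoidClass.coe_pow, hh]; rfl
    show _ ↔ ty ζ g.1.val = ty ζ h.1.val
    rw [← isConj_iff_ty hζ hg' hh']
    constructor
    · rintro ⟨c, hc⟩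
      exact ⟨toUnits c, Units.ext hc⟩
    · intro h
      exact MonoidHom.map_isConj (Units.coeHom (Matrix ι ι F)) h
  · rw [Set.mem_ofPred_eq, inv_gen_iff]
    constructor
    · rintro ⟨⟨h1, h2⟩, h3, h4⟩
      by_cases h0 : a 0 = 0
      · exact (hbad a h1 h2 h3 h0 (dvd_of_full (gen w) ((inv_gen_iff w a).2 ⟨h1, h2⟩) h3 h0)).2 (h4 h0)
      · exact realise_pos hζ w hw hr2 Q hQ h1 h2 h0 (by rw [h3, hn])
    · rintro ⟨g, hg, rfl⟩
      have h1 : Inv w (ty (r := r) ζ g.1.val) := fun c => by rw [hw]; exact typ_frob hζ _ c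
      have h2 := symm_of_mem hζ Q hQ g hg
      have h3 : ∑ c, ty (r := r) ζ g.1.val c = n := by rw [← hn]; exact sum_ty hζ (pow_matrix _ hg)
      exact ⟨⟨h1, h2⟩, h3, fun h0 => (hbad _ h1 h2 h3 h0
        (dvd_of_full (gen w) ((inv_gen_iff w _).2 ⟨h1, h2⟩) h3 h0)).1 ⟨g, hg, rfl⟩⟩

omit hζ [IsAlgClosed E] [Algebra F E] [Field E] [Fact r.Prime] in
theorem nf_two_mul {m : ℕ} (hm : 1 ≤ m) {P : QuadraticForm F (Fin (2 * m) → F)} (hP : Nondeg P) :
    (∃ z : (Fin m ⊕ Fin m → F) ≃ₗ[F] (Fin (2 * m) → F), ∀ x, P (z x) = Cfsg.quadFormPlus m F x) ∨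
    ∃ a b : F, Aniso a b ∧ ∃ z : ((Fin (m - 1) ⊕ Fin (m - 1)) ⊕ Fin 2 → F) ≃ₗ[F] (Fin (2 * m) → F),
      ∀ x, P (z x) = Cfsg.quadFormMinus (m - 1) F a b x := by
  rcases normal_form (2 * m) hP (Module.finrank_fin_fun F) with ⟨k, hk, -⟩ | ⟨k, hk, c, hc, j, hj⟩ |
    ⟨k, hk, a, b, hab, c, hc, j, hj⟩
  · omega
  · obtain rfl : m = k := by omega
    obtain ⟨e, he⟩ := QuadEmb.plus_iso (F := F) m hc
    refine Or.inl ⟨e.symm.trans j, fun x => ?_⟩
    rw [LinearEquiv.trans_apply, hj, ← he, LinearEquiv.apply_symm_apply]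
  · obtain rfl : k = m - 1 := by omega
    obtain ⟨e, he⟩ := QuadEmb.minus_iso (F := F) (m - 1) hab hab hc
    refine Or.inr ⟨a, b, hab, e.symm.trans j, fun x => ?_⟩
    rw [LinearEquiv.trans_apply, hj, ← he, LinearEquiv.apply_symm_apply]

omit hζ [IsAlgClosed E] [Algebra F E] [Field E] [Fintype F] in
/-- the power `q ^ m` modulo `r` -/
theorem pow_m (w : (ZMod r)ˣ) {m N b : ℕ} (hb : orderOf w = 2 * b) (hb0 : b ≠ 0) (hN : 2 * m = orderOf w * N) :
    (w : ZMod r) ^ m = (-1) ^ N := by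
  have h1 : m = b * N := by
    rw [hb] at hN
    have : 2 * m = 2 * (b * N) := by rw [hN]; ring
    omega
  rw [h1, pow_mul, ← Units.val_pow_eq_pow_val, Orders.pow_half w hb hb0]
  simp

/-- realisation through the model -/
theorem realise_of_iso {V : Type*} [AddCommGroup V] [Module F V] [FiniteDimensional F V]
    {ι : Type} [Fintype ι] [DecidableEq ι] (Q : QuadraticForm F (ι → F)) {a : ZMod r → ℕ}
    (g : V ≃ₗ[F] V) (P : QuadraticForm F V)
    (hg : (g.toLinearMap : Module.End F V) ^ r = 1)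
    (hgty : ∀ c : ZMod r, typ ζ g.toLinearMap.charpoly c = a c)
    (hPg : ∀ v, P (g v) = P v) (z : (ι → F) ≃ₗ[F] V) (hz : ∀ x, P (z x) = Q x) :
    ∃ g : ↥(Cfsg.isometryGroup F ⇑Q), g ^ r = 1 ∧ ty ζ g.1.val = a := by
  obtain ⟨A, hA, hA'⟩ := exists_mem ζ Q z g hg (fun v => by
    rw [← hz, ← hz, LinearEquiv.apply_symm_apply, LinearEquiv.apply_symm_apply, hPg])
  exact ⟨A, hA, funext fun c => by rw [hA', hgty]⟩

/-- full types are not realised in the wrong space, `i` even : plus type -/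
theorem plus_even (w : (ZMod r)ˣ) (hw : (w : ZMod r) = (Fintype.card F : ZMod r)) (hr2 : r ≠ 2) {m : ℕ} (hm : 1 ≤ m)
    {N b : ℕ} (hb : orderOf w = 2 * b) (hN : 2 * m = orderOf w * N) (hNo : Odd N)
    (A : ↥(Cfsg.isometryGroup F ⇑(quadPlus m F))) (hA : A ^ r = 1) (h0 : ty ζ A.1.val (0 : ZMod r) = 0) : False := by
  have hb0 : b ≠ 0 := by rintro rfl; exact (orderOf_pos w).ne' hb
  have h1 := card_sing (quadPlus m F) A hA h0
  rw [coe_quadPlus, S0289.result (F := F) rfl m hm] at h1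
  obtain ⟨k, rfl⟩ : ∃ k, m = k + 1 := ⟨m - 1, by omega⟩
  have h2 := pow_m w hb hb0 hN
  rw [hNo.neg_one_pow, hw] at h2
  have h3 : Fintype.card F ^ (k + 1 - 1) ≤ Fintype.card F ^ (2 * (k + 1) - 1) + Fintype.card F ^ (k + 1) :=
    (Nat.pow_le_pow_right Fintype.card_pos (by omega)).trans (Nat.le_add_left _ _)
  rw [Nat.cast_sub h3] at h1
  push_cast at h1
  rw [show 2 * (k + 1) - 1 = (k + 1) + k by omega, pow_add, h2] at h1
  -- h1 : -1 * x + -1 - x = 1
  have h2' : (2 : ZMod r) ≠ 0 := by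
    intro h
    have : ((2 : ℕ) : ZMod r) = 0 := by exact_mod_cast h
    rw [ZMod.natCast_eq_zero_iff] at this
    exact hr2 ((Nat.prime_dvd_prime_iff_eq Fact.out Nat.prime_two).1 this)
  have h4 : (Fintype.card F : ZMod r) ^ k = -1 := by
    have h5 : (2 : ZMod r) * ((Fintype.card F : ZMod r) ^ k + 1) = 0 := by linear_combination -h1
    have := (mul_eq_zero.1 h5).resolve_left h2'
    linear_combination this
  rw [pow_succ, h4] at h2
  have h6 : (w : ZMod r) = 1 := by rw [hw]; linear_combination -h2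
  have h7 : w = 1 := Units.ext h6
  rw [h7, orderOf_one] at hb
  omega

/-- full types are not realised in the wrong space, `i` even : minus type -/
theorem minus_even (w : (ZMod r)ˣ) (hw : (w : ZMod r) = (Fintype.card F : ZMod r)) (hr2 : r ≠ 2) {m : ℕ} (hm : 1 ≤ m)
    {a' b' : F} (hab : Aniso a' b')
    {N b : ℕ} (hb : orderOf w = 2 * b) (hN : 2 * m = orderOf w * N) (hNo : Even N)
    (A : ↥(Cfsg.isometryGroup F ⇑(quadMinus (m - 1) F a' b'))) (hA : A ^ r = 1)
    (h0 : ty ζ A.1.val (0 : ZMod r) = 0) : False := by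
  have hb0 : b ≠ 0 := by rintro rfl; exact (orderOf_pos w).ne' hb
  have h1 := card_sing (quadMinus (m - 1) F a' b') A hA h0
  rw [coe_quadMinus, S0290.result (F := F) rfl m hm a' b' hab] at h1
  obtain ⟨k, rfl⟩ : ∃ k, m = k + 1 := ⟨m - 1, by omega⟩
  have h2 := pow_m w hb hb0 hN
  rw [hNo.neg_one_pow, hw] at h2
  have h3 : Fintype.card F ^ (k + 1) ≤ Fintype.card F ^ (2 * (k + 1) - 1) + Fintype.card F ^ (k + 1 - 1) :=
    (Nat.pow_le_pow_right Fintype.card_pos (by omega)).trans (Nat.le_add_right _ _)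
  rw [Nat.cast_sub h3] at h1
  push_cast at h1
  rw [show 2 * (k + 1) - 1 = (k + 1) + k by omega, pow_add, h2] at h1
  have h2' : (2 : ZMod r) ≠ 0 := by
    intro h
    have : ((2 : ℕ) : ZMod r) = 0 := by exact_mod_cast h
    rw [ZMod.natCast_eq_zero_iff] at this
    exact hr2 ((Nat.prime_dvd_prime_iff_eq Fact.out Nat.prime_two).1 this)
  have h4 : (Fintype.card F : ZMod r) ^ k = 1 := by
    have h5 : (2 : ZMod r) * ((Fintype.card F : ZMod r) ^ k - 1) = 0 := by linear_combination h1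
    have := (mul_eq_zero.1 h5).resolve_left h2'
    linear_combination this
  rw [pow_succ, h4] at h2
  have h6 : (w : ZMod r) = 1 := by rw [hw]; linear_combination h2
  have h7 : w = 1 := Units.ext h6
  rw [h7, orderOf_one] at hb
  omega

omit hζ [IsAlgClosed E] [Algebra F E] [Field E] [Fact r.Prime] in
theorem plus_ne_minus {m : ℕ} (hm : 1 ≤ m) {a' b' : F} (hab : Aniso a' b')
    (z : ((Fin (m - 1) ⊕ Fin (m - 1)) ⊕ Fin 2 → F) ≃ₗ[F] (Fin m ⊕ Fin m → F))
    (hz : ∀ x, Cfsg.quadFormPlus m F (z x) = Cfsg.quadFormMinus (m - 1) F a' b' x) : False := by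
  have h1 : Nat.card {v : (Fin (m - 1) ⊕ Fin (m - 1)) ⊕ Fin 2 → F // Cfsg.quadFormMinus (m - 1) F a' b' v = 0} =
      Nat.card {v : Fin m ⊕ Fin m → F // Cfsg.quadFormPlus m F v = 0} :=
    Nat.card_congr (z.toEquiv.subtypeEquiv fun v => by
      show _ ↔ Cfsg.quadFormPlus m F (z v) = 0
      rw [hz])
  rw [S0289.result (F := F) rfl m hm, S0290.result (F := F) rfl m hm a' b' hab] at h1
  obtain ⟨k, rfl⟩ : ∃ k, m = k + 1 := ⟨m - 1, by omega⟩
  have h2 : Fintype.card F ^ k < Fintype.card F ^ (k + 1) := Nat.pow_lt_pow_right Fintype.one_lt_card (by omega)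
  have h3 : Fintype.card F ^ (k + 1) ≤ Fintype.card F ^ (2 * (k + 1) - 1) :=
    Nat.pow_le_pow_right Fintype.card_pos (by omega)
  rw [show k + 1 - 1 = k by omega] at h1
  omega

/-- full types in plus type -/
theorem plus_full (w : (ZMod r)ˣ) (hw : (w : ZMod r) = (Fintype.card F : ZMod r)) (hr2 : r ≠ 2) {m : ℕ} (hm : 1 ≤ m)
    {a : ZMod r → ℕ} (ha : Inv w a) (hs : ∀ c, a (-c) = a c) (hn : ∑ c, a c = 2 * m) (h0 : a 0 = 0) :
    (∃ g : ↥(Cfsg.isometryGroup F ⇑(quadPlus m F)), g ^ r = 1 ∧ ty ζ g.1.val = a) ↔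
      ¬ (¬ Odd (orderOf w) ∧ Odd (2 * m / orderOf w)) := by
  by_cases hodd : Odd (orderOf w)
  · simp only [hodd, not_true_eq_false, false_and, not_false_eq_true, iff_true]
    exact realise_plus hζ w hw hr2 hodd ha hs h0 m hn
  · obtain ⟨b, hb⟩ := Nat.not_odd_iff_even.1 hodd
    have hb' : orderOf w = 2 * b := by omega
    obtain ⟨N, hN⟩ := dvd_of_full w ha hn h0
    have hNd : 2 * m / orderOf w = N := by rw [hN, Nat.mul_div_cancel_left _ (orderOf_pos w)]
    rw [hNd]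
    simp only [hodd, not_false_eq_true, true_and]
    constructor
    · rintro ⟨A, hA, rfl⟩ hNo
      exact plus_even hζ w hw hr2 hm hb' hN hNo A hA h0
    · intro hNe
      obtain ⟨g, P, hg, hgty, hP, hPg, -⟩ := exists_space hζ w hw hr2 ha hs h0 hn
      rcases nf_two_mul hm hP with ⟨z, hz⟩ | ⟨a', b', hab, z, hz⟩
      · exact realise_of_iso hζ (quadPlus m F) g P hg hgty hPg z (fun x => by rw [hz, coe_quadPlus])
      · exfalso
        obtain ⟨A, hA, hAty⟩ := realise_of_iso hζ (quadMinus (m - 1) F a' b') g P hg hgty hPg z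
          (fun x => by rw [hz, coe_quadMinus])
        exact minus_even hζ w hw hr2 hm hab hb' hN (Nat.not_odd_iff_even.1 hNe) A hA (by rw [hAty, h0])

/-- full types in minus type -/
theorem minus_full (w : (ZMod r)ˣ) (hw : (w : ZMod r) = (Fintype.card F : ZMod r)) (hr2 : r ≠ 2) {m : ℕ} (hm : 1 ≤ m)
    {a' b' : F} (hab : Aniso a' b')
    {a : ZMod r → ℕ} (ha : Inv w a) (hs : ∀ c, a (-c) = a c) (hn : ∑ c, a c = 2 * m) (h0 : a 0 = 0) :
    (∃ g : ↥(Cfsg.isometryGroup F ⇑(quadMinus (m - 1) F a' b')), g ^ r = 1 ∧ ty ζ g.1.val = a) ↔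
      ¬ (Odd (orderOf w) ∨ Even (2 * m / orderOf w)) := by
  by_cases hodd : Odd (orderOf w)
  · simp only [hodd, true_or, not_true_eq_false, iff_false]
    rintro ⟨A, hA, hAty⟩
    obtain ⟨B, hB, hBty⟩ := realise_plus hζ w hw hr2 hodd ha hs h0 m hn
    let g : (Fin m ⊕ Fin m → F) ≃ₗ[F] (Fin m ⊕ Fin m → F) :=
      Matrix.toLin'OfInv (M' := B.1.val) (M := (B.1⁻¹).val) B.1.inv_mul B.1.mul_inv
    have hgv : ∀ v, g v = B.1.val.mulVec v := fun v => Matrix.toLin'_apply _ v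
    have hgL : g.toLinearMap = Matrix.toLin' B.1.val := LinearMap.ext fun v => hgv v
    obtain ⟨z, hz⟩ := exists_iso_model hζ hr2 (quadMinus (m - 1) F a' b')
      (nondeg_of_nondegenerate (quadMinus_nondegenerate hab)) A hA (by
        show ty ζ A.1.val 0 = 0
        rw [hAty, h0]) (V := Fin m ⊕ Fin m → F)
      (by rw [Module.finrank_fintype_fun_eq_card]; simp only [Fintype.card_sum, Fintype.card_fin]; omega)
      g (quadPlus m F) (by
        rw [hgL, ← Matrix.toLin'_pow, pow_matrix _ hB, Matrix.toLin'_one]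
        rfl) (fun c => by
        rw [hgL, charpoly_toLin']
        show ty ζ B.1.val c = ty ζ A.1.val c
        rw [hAty, hBty]) (nondeg_of_nondegenerate quadPlus_nondegenerate) (fun v => by
        rw [hgv]
        exact OrthConj.mem_isometryGroup.1 B.2 v)
    exact plus_ne_minus hm hab z (fun x => by rw [← coe_quadPlus, hz, coe_quadMinus])
  · obtain ⟨b, hb⟩ := Nat.not_odd_iff_even.1 hodd
    have hb' : orderOf w = 2 * b := by omega
    obtain ⟨N, hN⟩ := dvd_of_full w ha hn h0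
    have hNd : 2 * m / orderOf w = N := by rw [hN, Nat.mul_div_cancel_left _ (orderOf_pos w)]
    rw [hNd]
    simp only [hodd, false_or]
    constructor
    · rintro ⟨A, hA, rfl⟩ hNo
      exact minus_even hζ w hw hr2 hm hab hb' hN hNo A hA h0
    · intro hNe
      obtain ⟨g, P, hg, hgty, hP, hPg, -⟩ := exists_space hζ w hw hr2 ha hs h0 hn
      rcases nf_two_mul hm hP with ⟨z, hz⟩ | ⟨a'', b'', hab', z, hz⟩
      · exfalso
        obtain ⟨A, hA, hAty⟩ := realise_of_iso hζ (quadPlus m F) g P hg hgty hPg z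
          (fun x => by rw [hz, coe_quadPlus])
        exact plus_even hζ w hw hr2 hm hb' hN (Nat.not_even_iff_odd.1 hNe) A hA (by rw [hAty, h0])
      · obtain ⟨e, he⟩ := QuadEmb.minus_iso (F := F) (m - 1) hab hab' one_ne_zero
        exact realise_of_iso hζ (quadMinus (m - 1) F a' b') g P hg hgty hPg (e.trans z)
          (fun x => by rw [LinearEquiv.trans_apply, hz, he, coe_quadMinus, one_mul])

end

end Cfsg.Agent.H193.OrthCount
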