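import Mathlib
import Cfsg.Agent.H193.ClassCount
import Cfsg.Agent.H193.Orders
import Cfsg.Agent.H186.Unitary
set_option linter.all false

/-!
# Classes of elements of prime order of `GU_n(q)`
-/

set_option autoImplicit false

open Polynomial

namespace Cfsg.Agent.H193.GUCount

open Cfsg.Agent.H193.Types Cfsg.Agent.H193.Count Cfsg.Agent.H193.Realise Cfsg.Agent.H193.ClassCount

universe u v

/-- twisting by `x ↦ x ^ q` -/
theorem typ_twist {K : Type u} [Field K] {E : Type v} [Field E] [Algebra K E] {r : ℕ} [NeZero r] {ζ : E}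
    (hζ : IsPrimitiveRoot ζ r) {q : ℕ} (φ : K →+* K) (hφ : ∀ x, φ x = x ^ q) (Φ : E →+* E) (hΦ : ∀ x, Φ x = x ^ q)
    (p : K[X]) (c : ZMod r) : typ ζ (p.map φ) ((q : ZMod r) * c) = typ ζ p c := by
  rw [typ_eq_rootMultiplicity, typ_eq_rootMultiplicity]
  have h1 : (p.map φ).map (algebraMap K E) = (p.map (algebraMap K E)).map Φ := by
    rw [Polynomial.map_map, Polynomial.map_map]
    congr 1
    ext x
    simp [hφ, hΦ]
  have h2 := Polynomial.eq_rootMultiplicity_map (p := p.map (algebraMap K E)) (f := Φ) Φ.injective (ζ ^ c.val)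
  rw [h2, ← h1, ex_mul hζ, hΦ]

theorem exists_pow_hom {K : Type u} [Field K] [Fintype K] {E : Type v} [Field E] [Algebra K E] {q : ℕ}
    (hK : Fintype.card K = q ^ 2) :
    (∃ φ : K →+* K, ∀ x, φ x = x ^ q) ∧ ∃ Φ : E →+* E, ∀ x, Φ x = x ^ q := by
  obtain ⟨p, hp⟩ := CharP.exists K
  obtain ⟨k, hpp, hk⟩ := FiniteField.card K p
  have : Fact p.Prime := ⟨hpp⟩
  obtain ⟨m, -, hm⟩ := (Nat.dvd_prime_pow hpp).1 (show q ∣ p ^ (k : ℕ) from ⟨q, by rw [← hk, hK, sq]⟩)
  have : CharP E p := charP_of_injective_algebraMap (algebraMap K E).injective p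
  exact ⟨⟨iterateFrobenius K p m, fun x => by rw [iterateFrobenius_def, hm]⟩,
    ⟨iterateFrobenius E p m, fun x => by rw [iterateFrobenius_def, hm]⟩⟩

section

variable {K : Type u} [Field K] [Fintype K] {E : Type v} [Field E] [Algebra K E] [IsAlgClosed E] {r q n : ℕ}
  [Fact r.Prime] {ζ : E} (hζ : IsPrimitiveRoot ζ r) (hK : Fintype.card K = q ^ 2) (w : (ZMod r)ˣ)
  (hw : (w : ZMod r) = (q : ZMod r))

include hζ hK hw

/-- the type of the image of `A` under the unitary automorphism -/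
theorem ty_star {A : GL (Fin n) K} (hA : A ^ r = 1) : ∃ A' : GL (Fin n) K,
    (A' : Matrix (Fin n) (Fin n) K) = (((A : Matrix (Fin n) (Fin n) K).map (fun x : K => x ^ q)).transpose)⁻¹ ∧
      A' ^ r = 1 ∧ ∀ c : ZMod r,
        ty ζ (A' : Matrix (Fin n) (Fin n) K) (((-w : (ZMod r)ˣ) : ZMod r) * c) = ty ζ (A : Matrix (Fin n) (Fin n) K) c := by
  obtain ⟨⟨φ, hφ⟩, ⟨Φ, hΦ⟩⟩ := exists_pow_hom (E := E) hK
  let Aq : GL (Fin n) K := Matrix.GeneralLinearGroup.map φ A
  have hAq : (Aq : Matrix (Fin n) (Fin n) K) = (A : Matrix (Fin n) (Fin n) K).map (fun x : K => x ^ q) := by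
    ext i j
    show φ _ = _
    rw [hφ]; rfl
  have hAqr : Aq ^ r = 1 := by
    show (Matrix.GeneralLinearGroup.map φ A) ^ r = 1
    rw [← map_pow, hA, map_one]
  have hAqT : ((Aq : Matrix (Fin n) (Fin n) K).transpose) ^ r = 1 := by
    rw [← Matrix.transpose_pow, ← Units.val_pow_eq_pow_val, hAqr, Units.val_one, Matrix.transpose_one]
  have hu : IsUnit ((Aq : Matrix (Fin n) (Fin n) K).transpose) := IsUnit.of_pow_eq_one hAqT (NeZero.ne r)
  have hur : hu.unit ^ r = 1 := Units.ext (by rw [Units.val_pow_eq_pow_val, IsUnit.unit_spec, hAqT, Units.val_one])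
  refine ⟨hu.unit⁻¹, ?_, by rw [inv_pow, hur, inv_one], fun c => ?_⟩
  · rw [← hAq, Matrix.coe_units_inv, IsUnit.unit_spec]
  · rw [ty_inv hζ hur, IsUnit.unit_spec, ty_transpose]
    have h1 : -(((-w : (ZMod r)ˣ) : ZMod r) * c) = (q : ZMod r) * c := by
      rw [← hw]; simp
    rw [h1]
    have h2 : (Aq : Matrix (Fin n) (Fin n) K).charpoly = (A : Matrix (Fin n) (Fin n) K).charpoly.map φ :=
      Matrix.charpoly_map _ _
    rw [ty, ty, h2, typ_twist hζ φ hφ Φ hΦ]

theorem gu_count_aux :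
    Nat.card {C : ConjClasses ↥(Cfsg.GU n K q) // ∃ g : ↥(Cfsg.GU n K q), ConjClasses.mk g = C ∧ orderOf g = r} =
      (n / orderOf (-w) + (r - 1) / orderOf (-w)).choose ((r - 1) / orderOf (-w)) - 1 := by
  have hr : r.Prime := Fact.out
  have hpow : ∀ g : ↥(Cfsg.GU n K q), g ^ r = 1 → (g : GL (Fin n) K) ^ r = 1 := fun g hg => by
    rw [← Subgroup.coe_pow, hg]; rfl
  have hpow' : ∀ g : GL (Fin n) K, g ^ r = 1 → (g : Matrix (Fin n) (Fin n) K) ^ r = 1 := fun g hg => by
    rw [← Units.val_pow_eq_pow_val, hg, Units.val_one]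
  have hww : ((w * w : (ZMod r)ˣ) : ZMod r) = (Fintype.card K : ZMod r) := by
    rw [Units.val_mul, hw, hK, Nat.cast_pow, sq]
  rw [card_classes hr (fun g : ↥(Cfsg.GU n K q) => ty (r := r) ζ ((g : GL (Fin n) K) : Matrix (Fin n) (Fin n) K))
    {a | Inv (-w) a ∧ ∑ c, a c = n} (fun g h hg hh => (Cfsg.Agent.H186.gu_isConj_iff hK g h).trans
      (isConj_iff_ty hζ (hpow g hg) (hpow h hh))) (fun a => ?_)]
  · congr 1
    exact card_inv (-w) n
  · constructor
    · rintro ⟨h1, h2⟩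
      have h1' : Inv (w * w) a := fun c => by
        have h3 := h1 (((-w : (ZMod r)ˣ) : ZMod r) * c)
        rw [h1 c] at h3
        rw [← h3, ← mul_assoc, ← Units.val_mul, neg_mul_neg]
      obtain ⟨M, hM, hMa⟩ := exists_of_type hζ (w * w) hww n a h1' h2
      have hu : IsUnit M := IsUnit.of_pow_eq_one hM hr.ne_zero
      have hur : hu.unit ^ r = 1 := Units.ext (by rw [Units.val_pow_eq_pow_val, IsUnit.unit_spec, hM, Units.val_one])
      obtain ⟨A', hA', hA'r, hA'ty⟩ := ty_star hζ hK w hw hur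
      have hconj : IsConj hu.unit A' := by
        rw [isConj_iff_ty hζ hur hA'r]
        funext c
        rw [IsUnit.unit_spec, hMa]
        have h3 := hA'ty ((((-w)⁻¹ : (ZMod r)ˣ) : ZMod r) * c)
        rw [← mul_assoc, ← Units.val_mul, mul_inv_cancel, Units.val_one, one_mul] at h3
        rw [h3, IsUnit.unit_spec, hMa]
        have h4 := h1 ((((-w)⁻¹ : (ZMod r)ˣ) : ZMod r) * c)
        rw [← mul_assoc, ← Units.val_mul, mul_inv_cancel, Units.val_one, one_mul] at h4
        exact h4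
      obtain ⟨B, hB⟩ := (Cfsg.Agent.H186.exists_isConj_iff hK hu.unit).2 (by
        rw [← hA']
        exact MonoidHom.map_isConj (Units.coeHom (Matrix (Fin n) (Fin n) K)) hconj)
      refine ⟨B, ?_, ?_⟩
      · obtain ⟨x, hx⟩ := isConj_iff.1 hB
        apply Subtype.ext
        rw [Subgroup.coe_pow, ← hx, conj_pow, hur]
        simp
      · show ty ζ _ = a
        rw [← ty_congr ζ hB, IsUnit.unit_spec, hMa]
    · rintro ⟨g, hg, rfl⟩
      have hg' := hpow g hg
      refine ⟨fun c => ?_, ?_⟩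
      · obtain ⟨A', hA', hA'r, hA'ty⟩ := ty_star hζ hK w hw hg'
        obtain ⟨x, hx⟩ := (Cfsg.Agent.H186.exists_isConj_iff hK (g : GL (Fin n) K)).1 ⟨g, IsConj.refl _⟩
        rw [← hA'] at hx
        have hconj : IsConj (g : GL (Fin n) K) A' := ⟨toUnits x, Units.ext hx⟩
        show ty ζ _ _ = ty ζ _ c
        rw [ty_congr ζ hconj]
        rw [hA'ty, ← ty_congr ζ hconj]
      · have := sum_ty hζ (hpow' _ hg')
        rwa [Fintype.card_fin] at this

end

theorem gu_count {K : Type*} [Field K] [Fintype K] {p q n r i b s : ℕ} [Fact p.Prime] [CharP K p]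
    (hK : Fintype.card K = q ^ 2) (hr : r.Prime) (hr2 : r ≠ 2) (hrp : r ≠ p) (hi : i = orderOf (q : ZMod r))
    (hb : b = if Odd i then i else i / 2) (hs : s * b = r - 1) :
    Nat.card {C : ConjClasses ↥(Cfsg.GU n K q) // ∃ g : ↥(Cfsg.GU n K q), ConjClasses.mk g = C ∧ orderOf g = r} =
      if i % 4 = 2 then Nat.choose (2 * n / i + s) s - 1 else Nat.choose (n / (2 * b) + s / 2) (s / 2) - 1 := by
  have : Fact r.Prime := ⟨hr⟩
  obtain ⟨ζ, hζ⟩ := exists_root (F := K) hr (cast_ne_zero (p := p) hr hrp)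
  have hq0 : (q : ZMod r) ≠ 0 := by
    intro h
    apply natCast_card_ne_zero (F := K) (p := p) hr hrp
    rw [hK, Nat.cast_pow, h]
    simp
  obtain ⟨w, hw⟩ := exists_unit hq0
  have hiw : orderOf w = i := by rw [hi, ← hw, orderOf_units]
  have hi0 : 0 < i := hiw ▸ orderOf_pos w
  rw [gu_count_aux hζ hK w hw]
  by_cases hodd : Odd i
  · rw [if_pos hodd] at hb
    subst hb
    have h1 : orderOf (-w) = 2 * b := by rw [Orders.orderOf_neg_of_odd w hr2 (hiw.symm ▸ hodd), hiw]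
    have h2 : ¬ b % 4 = 2 := by
      obtain ⟨k, hk⟩ := hodd
      omega
    have h3 : (r - 1) / (2 * b) = s / 2 := by
      rw [← hs, mul_comm s b, mul_comm 2 b, Nat.mul_div_mul_left _ _ hi0]
    rw [if_neg h2, h1, h3]
  · rw [if_neg hodd] at hb
    have hev : i = 2 * b := by
      rw [Nat.not_odd_iff_even] at hodd
      obtain ⟨k, hk⟩ := hodd
      omega
    have hb0 : 0 < b := by omega
    have hiw' : orderOf w = 2 * b := hiw.trans hev
    rcases Nat.even_or_odd b with hbe | hbo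
    · have h1 := Orders.orderOf_neg_of_four_dvd w hr2 hiw' hbe
      have h2 : ¬ i % 4 = 2 := by
        obtain ⟨k, hk⟩ := hbe
        omega
      have h3 : (r - 1) / (2 * b) = s / 2 := by
        rw [← hs, mul_comm s b, mul_comm 2 b, Nat.mul_div_mul_left _ _ hb0]
      rw [if_neg h2, h1, h3]
    · have h1 := Orders.orderOf_neg_of_two_mod_four w hiw' hbo
      have h2 : i % 4 = 2 := by
        obtain ⟨k, hk⟩ := hbo
        omega
      have h3 : (r - 1) / b = s := by rw [← hs, Nat.mul_div_cancel _ hb0]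
      have h4 : 2 * n / i = n / b := by rw [hev, Nat.mul_div_mul_left _ _ two_pos]
      rw [if_pos h2, h1, h3, h4]

end Cfsg.Agent.H193.GUCount
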