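import Mathlib
import Cfsg.Agent.H193.Realise
set_option linter.all false

/-!
# Matrices whose `r`-th power is scalar
-/

set_option autoImplicit false

open Polynomial

namespace Cfsg.Agent.H193.ScalarRoots

open Cfsg.Agent.H193.Types Cfsg.Agent.H193.Count Cfsg.Agent.H193.Realise

universe u v

section

variable {F : Type u} [Field F] {ι : Type} [Fintype ι] [DecidableEq ι]

/-- `A ^ r = B ^ r` a scalar which is not an `r`-th power -/
theorem isConj_of_pow_eq {r : ℕ} (hr : r.Prime) {c : F} (hc : ∀ d : F, d ^ r ≠ c) (A B : GL ι F)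
    (hA : (A : Matrix ι ι F) ^ r = c • (1 : Matrix ι ι F)) (hB : (B : Matrix ι ι F) ^ r = c • (1 : Matrix ι ι F)) :
    IsConj A B := by
  have hirr : Irreducible (X ^ r - C c : F[X]) := X_pow_sub_C_irreducible_of_prime hr hc
  have tr : ∀ M : Matrix ι ι F, M ^ r = c • (1 : Matrix ι ι F) → aeval (Matrix.toLin' M) (X ^ r - C c : F[X]) = 0 := by
    intro M hM
    rw [map_sub, map_pow, aeval_X, aeval_C, ← Matrix.toLin'_pow, hM, map_smul, Matrix.toLin'_one,
      Algebra.algebraMap_eq_smul_one]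
    exact sub_self _
  obtain ⟨e, he⟩ := SsConj.exists_equiv_irred (Matrix.toLin' (A : Matrix ι ι F)) (Matrix.toLin' (B : Matrix ι ι F)) hirr
    (tr _ hA) (tr _ hB) rfl
  have he' : ∀ v, e ((A : Matrix ι ι F).mulVec v) = (B : Matrix ι ι F).mulVec (e v) := fun v => by
    have := he v
    rwa [Matrix.toLin'_apply, Matrix.toLin'_apply] at this
  let M : Matrix ι ι F := LinearMap.toMatrix' e.toLinearMap
  let N : Matrix ι ι F := LinearMap.toMatrix' e.symm.toLinearMap
  have hMv : ∀ v, M.mulVec v = e v := fun v => LinearMap.toMatrix'_mulVec _ _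
  have hMN : M * N = 1 := by
    rw [← LinearMap.toMatrix'_comp]
    simp
  have hNM : N * M = 1 := by
    rw [← LinearMap.toMatrix'_comp]
    simp
  let x : GL ι F := ⟨M, N, hMN, hNM⟩
  refine isConj_iff.2 ⟨x, ?_⟩
  rw [mul_inv_eq_iff_eq_mul]
  apply Units.ext
  apply Matrix.toLin'.injective
  apply LinearMap.ext
  intro v
  rw [Units.val_mul, Units.val_mul, Matrix.toLin'_apply, Matrix.toLin'_apply, ← Matrix.mulVec_mulVec,
    ← Matrix.mulVec_mulVec]
  show M.mulVec _ = (B : Matrix ι ι F).mulVec (M.mulVec v)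
  rw [hMv, hMv, he']

/-- monomial matrices with scalar `r`-th power -/
theorem exists_monomial {r : ℕ} (hr : 1 ≤ r) {n : ℕ} (hn : r ∣ n) (c : F) :
    ∃ (τ : Equiv.Perm (Fin n)) (d : Fin n → F), (∀ i, d i = 1 ∨ d i = c) ∧
      (Matrix.diagonal d * τ.permMatrix F) ^ r = c • (1 : Matrix (Fin n) (Fin n) F) := by
  obtain ⟨k, rfl⟩ := hn
  have : NeZero r := ⟨by omega⟩
  obtain ⟨e⟩ : Nonempty (Fin (r * k) ≃ ZMod r × Fin k) := by
    refine ⟨Fintype.equivOfCardEq ?_⟩
    rw [Fintype.card_fin, Fintype.card_prod, ZMod.card, Fintype.card_fin]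
  let τ : Equiv.Perm (Fin (r * k)) := e.trans (((Equiv.addRight (1 : ZMod r)).prodCongr (Equiv.refl _)).trans e.symm)
  have hτ : ∀ i, e (τ i) = ((e i).1 + 1, (e i).2) := fun i => by
    show e (e.symm _) = _
    rw [Equiv.apply_symm_apply]; rfl
  let d : Fin (r * k) → F := fun i => if (e i).1 = 0 then c else 1
  refine ⟨τ, d, fun i => ?_, ?_⟩
  · by_cases h : (e i).1 = 0
    · exact Or.inr (if_pos h)
    · exact Or.inl (if_neg h)
  have hτk : ∀ (j : ℕ) i, e ((τ ^ j) i) = ((e i).1 + j, (e i).2) := by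
    intro j
    induction j with
    | zero => intro i; simp
    | succ j ih =>
      intro i
      rw [pow_succ', Equiv.Perm.mul_apply, hτ, ih]
      push_cast
      rw [add_assoc]
  have hM : ∀ v i, (Matrix.diagonal d * τ.permMatrix F).mulVec v i = d i * v (τ i) := fun v i => by
    rw [← Matrix.mulVec_mulVec, Matrix.mulVec_diagonal, Matrix.permMatrix_mulVec]
    rfl
  have hMk : ∀ (j : ℕ) v i, ((Matrix.diagonal d * τ.permMatrix F) ^ j).mulVec v i =
      (∏ l ∈ Finset.range j, d ((τ ^ l) i)) * v ((τ ^ j) i) := by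
    intro j
    induction j with
    | zero => intro v i; simp
    | succ j ih =>
      intro v i
      rw [pow_succ, ← Matrix.mulVec_mulVec, ih, hM, Finset.prod_range_succ, ← Equiv.Perm.mul_apply, ← pow_succ']
      ring
  have hprod : ∀ i, ∏ l ∈ Finset.range r, d ((τ ^ l) i) = c := by
    intro i
    have h1 : ∏ l ∈ Finset.range r, d ((τ ^ l) i) = ∏ l ∈ Finset.range r, (if (e i).1 + (l : ZMod r) = 0 then c else 1) :=
      Finset.prod_congr rfl fun l _ => by
        show (if (e ((τ ^ l) i)).1 = 0 then c else 1) = _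
        rw [hτk]
    rw [h1, Finset.prod_ite, Finset.prod_const_one, mul_one, Finset.prod_const]
    have h2 : ((Finset.range r).filter fun l : ℕ => (e i).1 + (l : ZMod r) = 0) = {(-(e i).1).val} := by
      ext l
      rw [Finset.mem_filter, Finset.mem_range, Finset.mem_singleton]
      constructor
      · rintro ⟨hl, hl'⟩
        have : -(e i).1 = (l : ZMod r) := by linear_combination -hl'
        rw [this, ZMod.val_natCast, Nat.mod_eq_of_lt hl]
      · rintro rfl
        exact ⟨ZMod.val_lt _, by rw [ZMod.natCast_zmod_val]; ring⟩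
    rw [h2, Finset.card_singleton, pow_one]
  have hτr : ∀ i, (τ ^ r) i = i := fun i => e.injective (by rw [hτk]; simp)
  apply Matrix.toLin'.injective
  apply LinearMap.ext
  intro v
  funext i
  rw [Matrix.toLin'_apply, hMk, hprod, hτr, Matrix.toLin'_apply, Matrix.smul_mulVec, Matrix.one_mulVec]
  rfl

end

section

variable {F : Type u} [Field F] {E : Type v} [Field E] [Algebra F E] {r : ℕ}
  [IsAlgClosed E] [Fact r.Prime] {z : F} (hz : IsPrimitiveRoot z r)

include hz

theorem ty_diag {ι : Type} [Fintype ι] [DecidableEq ι] (c : ι → ZMod r) (d : ZMod r) :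
    ty (algebraMap F E z) (Matrix.diagonal fun i => z ^ (c i).val) d = (Finset.univ.filter fun i => c i = d).card := by
  refine typ_of_exp (hz.map_of_injective (algebraMap F E).injective) ?_ d
  rw [Matrix.charpoly_diagonal, Polynomial.map_prod]
  refine Finset.prod_congr rfl fun i _ => ?_
  rw [Polynomial.map_sub, Polynomial.map_X, Polynomial.map_C, map_pow]

theorem exists_diag {ι : Type} [Fintype ι] [DecidableEq ι] {A : GL ι F} (hA : A ^ r = 1) :
    ∃ (c : ι → ZMod r) (D : GL ι F), (D : Matrix ι ι F) = Matrix.diagonal (fun i => z ^ (c i).val) ∧ IsConj A D := by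
  have hζ : IsPrimitiveRoot (algebraMap F (AlgebraicClosure F) z) r :=
    hz.map_of_injective (algebraMap F (AlgebraicClosure F)).injective
  have hA' : (A : Matrix ι ι F) ^ r = 1 := by rw [← Units.val_pow_eq_pow_val, hA, Units.val_one]
  obtain ⟨c, hc⟩ := exists_exp hζ hA'
  have hD : (Matrix.diagonal (fun i => z ^ (c i).val) : Matrix ι ι F) ^ r = 1 := by
    rw [Matrix.diagonal_pow]
    have : (fun i => z ^ (c i).val) ^ r = fun _ => (1 : F) := by
      funext i
      rw [Pi.pow_apply, ← pow_mul, mul_comm, pow_mul, hz.pow_eq_one, one_pow]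
    rw [this, Matrix.diagonal_one]
  have hu : IsUnit (Matrix.diagonal (fun i => z ^ (c i).val) : Matrix ι ι F) :=
    IsUnit.of_pow_eq_one hD (NeZero.ne r)
  refine ⟨c, hu.unit, rfl, ?_⟩
  have hur : hu.unit ^ r = 1 := Units.ext (by rw [Units.val_pow_eq_pow_val, IsUnit.unit_spec, hD, Units.val_one])
  rw [isConj_iff_ty hζ hA hur]
  funext d
  rw [IsUnit.unit_spec, ty_diag hz, ty, typ_of_exp hζ hc]

theorem ty_smul {ι : Type} [Fintype ι] [DecidableEq ι] {A : GL ι F} (hA : A ^ r = 1) (d : ZMod r) :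
    ty (algebraMap F E z) (z • (A : Matrix ι ι F)) d = ty (algebraMap F E z) (A : Matrix ι ι F) (d - 1) := by
  obtain ⟨c, D, hD, hAD⟩ := exists_diag hz hA
  have hz0 : z ≠ 0 := hz.ne_zero (NeZero.ne r)
  obtain ⟨s, hs⟩ : ∃ s : GL ι F, (s : Matrix ι ι F) = z • (1 : Matrix ι ι F) := by
    refine ⟨⟨z • 1, z⁻¹ • 1, ?_, ?_⟩, rfl⟩
    · rw [smul_mul_smul_comm, mul_inv_cancel₀ hz0, one_smul, one_mul]
    · rw [smul_mul_smul_comm, inv_mul_cancel₀ hz0, one_smul, one_mul]
  have hsA : ((s * A : GL ι F) : Matrix ι ι F) = z • (A : Matrix ι ι F) := by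
    rw [Units.val_mul, hs, smul_mul_assoc, one_mul]
  have hsD : ((s * D : GL ι F) : Matrix ι ι F) = Matrix.diagonal fun i => z ^ (c i + 1).val := by
    rw [Units.val_mul, hs, smul_mul_assoc, one_mul, hD, ← Matrix.diagonal_smul]
    congr 1
    funext i
    rw [Pi.smul_apply, smul_eq_mul, ex_add hz, mul_comm]
    congr 1
    have : Fact (1 < r) := ⟨(Fact.out : r.Prime).one_lt⟩
    rw [ZMod.val_one, pow_one]
  have hconj : IsConj (s * A) (s * D) := by
    obtain ⟨x, hx⟩ := isConj_iff.1 hAD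
    refine isConj_iff.2 ⟨x, ?_⟩
    have hcomm : x * s = s * x := Units.ext (by
      rw [Units.val_mul, Units.val_mul, hs, smul_mul_assoc, mul_smul_comm, one_mul, mul_one])
    rw [← mul_assoc, hcomm, ← hx]
    group
  have h1 := congrFun (ty_congr (r := r) (algebraMap F E z) hconj) d
  have h2 := congrFun (ty_congr (r := r) (algebraMap F E z) hAD) (d - 1)
  rw [hsA, hsD, ty_diag hz] at h1
  rw [hD, ty_diag hz] at h2
  rw [h1, h2]
  congr 1
  ext i
  rw [Finset.mem_filter, Finset.mem_filter, eq_sub_iff_add_eq]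

/-- diagonal matrices realise every tuple -/
theorem exists_of_tuple {n : ℕ} (a : ZMod r → ℕ) (ha : ∑ c, a c = n) :
    ∃ c : Fin n → ZMod r, ∀ d, ty (algebraMap F E z) (Matrix.diagonal fun i => z ^ (c i).val) d = a d := by
  have hr : r.Prime := Fact.out
  obtain ⟨c, hc⟩ : ∃ c : Fin n → ZMod r, ∀ d, (Finset.univ.filter fun i => c i = d).card = a d := by
    subst ha
    obtain ⟨e⟩ : Nonempty (Fin (∑ c, a c) ≃ (Σ c : ZMod r, Fin (a c))) := ⟨Fintype.equivOfCardEq (by
      rw [Fintype.card_fin, Fintype.card_sigma]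
      exact Finset.sum_congr rfl fun c _ => (Fintype.card_fin _).symm)⟩
    refine ⟨fun i => (e i).1, fun d => ?_⟩
    have h1 : (Finset.univ.filter fun i => (e i).1 = d).card = Fintype.card {i // (e i).1 = d} :=
      (Fintype.card_subtype _).symm
    rw [h1, ← Fintype.card_fin (a d)]
    refine Fintype.card_congr ?_
    refine (e.subtypeEquiv (q := fun x : Σ c : ZMod r, Fin (a c) => x.1 = d) fun _ => Iff.rfl).trans ?_
    exact Equiv.sigmaSubtype d
  exact ⟨c, fun d => by rw [ty_diag hz, hc]⟩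

end

end Cfsg.Agent.H193.ScalarRoots
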