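import Mathlib
import Cfsg.Agent.H193.Realise
import Cfsg.Agent.H193.ScalarRoots
import Cfsg.Agent.H186.Unitary
set_option linter.all false

-- part: H193/Shift
section
/-!
# Rotation orbits on tuples of multiplicities

`card_orbits` : the number of orbits of the rotation on the `r`-tuples of natural numbers with sum `n` and all
entries different from `n`.
-/

set_option autoImplicit false

namespace Cfsg.Agent.H193.Shift

open Cfsg.Agent.H193.Count

variable (r n : ℕ) [Fact r.Prime]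

/-- tuples with sum `n` and no entry equal to `n` -/
def T : Type := {a : ZMod r → ℕ // ∑ c, a c = n ∧ ∀ c, a c ≠ n}

variable {r n}

/-- constructor -/
def mkT (a : ZMod r → ℕ) (h1 : ∑ c, a c = n) (h2 : ∀ c, a c ≠ n) : T r n := ⟨a, h1, h2⟩

theorem sum_shift (a : ZMod r → ℕ) (s : ZMod r) : ∑ c, a (c - s) = ∑ c, a c :=
  Fintype.sum_equiv (Equiv.subRight s) _ _ fun _ => rfl

instance : MulAction (Multiplicative (ZMod r)) (T r n) where
  smul s a := ⟨fun c => a.1 (c - s.toAdd), by rw [sum_shift]; exact a.2.1, fun c => a.2.2 _⟩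
  one_smul a := Subtype.ext (funext fun c => by
    show a.1 (c - (1 : Multiplicative (ZMod r)).toAdd) = _
    rw [toAdd_one, sub_zero])
  mul_smul s t a := Subtype.ext (funext fun c => by
    show a.1 (c - (s * t).toAdd) = a.1 (c - s.toAdd - t.toAdd)
    rw [toAdd_mul, sub_sub])

theorem smul_val (s : Multiplicative (ZMod r)) (a : T r n) (c : ZMod r) : (s • a).1 c = a.1 (c - s.toAdd) := rfl

instance : Finite (T r n) := by
  have := finite_inv (1 : (ZMod r)ˣ) n
  exact Finite.of_injective (fun a : T r n =>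
    (⟨a.1, fun c => by rw [Units.val_one, one_mul], a.2.1⟩ : {a : ZMod r → ℕ // Inv 1 a ∧ ∑ c, a c = n}))
    fun a b h => Subtype.ext (by have h1 := congrArg Subtype.val h; exact h1)

/-- the tuple with the only entry `n` at `d` -/
def del (n : ℕ) (d : ZMod r) : ZMod r → ℕ := fun c => if c = d then n else 0

theorem sum_del (d : ZMod r) : ∑ c, del n d c = n := by
  simp [del]

theorem eq_del {a : ZMod r → ℕ} (ha : ∑ c, a c = n) {d : ZMod r} (hd : a d = n) : a = del n d := by
  funext c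
  unfold del
  split_ifs with h
  · rw [h, hd]
  · have h1 := Finset.add_sum_erase Finset.univ a (Finset.mem_univ d)
    rw [ha, hd] at h1
    have h2 : ∑ c ∈ Finset.univ.erase d, a c = 0 := by omega
    exact (Finset.sum_eq_zero_iff.1 h2) c (Finset.mem_erase.2 ⟨h, Finset.mem_univ _⟩)

theorem card_T (hn : 1 ≤ n) : Nat.card (T r n) = (n + r - 1).choose (r - 1) - r := by
  classical
  have hr : r.Prime := Fact.out
  have h1 := card_inv (1 : (ZMod r)ˣ) n
  rw [orderOf_one, Nat.div_one, Nat.div_one] at h1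
  have h2 : n + (r - 1) = n + r - 1 := by have := hr.two_le; omega
  rw [h2] at h1
  have hfin : ({a : ZMod r → ℕ | Inv 1 a ∧ ∑ c, a c = n}).Finite := finite_inv (1 : (ZMod r)ˣ) n
  have h3 : Nat.card (T r n) = ({a : ZMod r → ℕ | Inv 1 a ∧ ∑ c, a c = n} \ Set.range (del (r := r) n)).ncard := by
    refine Nat.card_congr (Equiv.subtypeEquivRight fun a => ?_)
    constructor
    · rintro ⟨h4, h5⟩
      refine ⟨⟨fun c => by rw [Units.val_one, one_mul], h4⟩, ?_⟩
      rintro ⟨d, rfl⟩
      exact h5 d (by simp [del])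
    · rintro ⟨⟨-, h4⟩, h5⟩
      exact ⟨h4, fun c hc => h5 ⟨c, (eq_del h4 hc).symm⟩⟩
  have h4 : Set.range (del (r := r) n) ⊆ {a : ZMod r → ℕ | Inv 1 a ∧ ∑ c, a c = n} := by
    rintro _ ⟨d, rfl⟩
    exact ⟨fun c => by rw [Units.val_one, one_mul], sum_del d⟩
  rw [h3, Set.ncard_sdiff h4 (Set.toFinite _)]
  have h5 : (Set.range (del (r := r) n)).ncard = r := by
    rw [← Nat.card_coe_set_eq, Nat.card_range_of_injective, Nat.card_eq_fintype_card, ZMod.card]
    intro d e hde
    by_contra hne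
    have := congrFun hde d
    simp only [del, if_true, if_neg hne] at this
    omega
  rw [h5]
  congr 1

theorem card_fixedBy (hn : 1 ≤ n) {s : Multiplicative (ZMod r)} (hs : s ≠ 1) :
    Nat.card (MulAction.fixedBy (T r n) s) = if r ∣ n then 1 else 0 := by
  classical
  have hr : r.Prime := Fact.out
  have hs' : s.toAdd ≠ 0 := fun h => hs (by rw [← ofAdd_toAdd s, h, ofAdd_zero])
  have hconst : ∀ a ∈ MulAction.fixedBy (T r n) s, ∀ c, a.1 c = a.1 0 := by
    intro a ha
    have h1 : ∀ c, a.1 (c - s.toAdd) = a.1 c := fun c => by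
      rw [← smul_val, MulAction.mem_fixedBy.1 ha]
    have h2 : ∀ (k : ℕ) c, a.1 (c - k * s.toAdd) = a.1 c := by
      intro k
      induction k with
      | zero => intro c; simp
      | succ k ih =>
        intro c
        rw [← ih c, ← h1 (c - k * s.toAdd)]
        exact congrArg a.1 (by push_cast; ring)
    intro c
    obtain ⟨k, hk⟩ : ∃ k : ℕ, (k : ZMod r) = c * (s.toAdd)⁻¹ := ⟨(c * (s.toAdd)⁻¹).val, ZMod.natCast_zmod_val _⟩
    rw [← h2 k c, hk, mul_assoc, inv_mul_cancel₀ hs', mul_one, sub_self]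
  split_ifs with hdvd
  · obtain ⟨k, hk⟩ := hdvd
    have hk' : ∀ c : ZMod r, (fun _ : ZMod r => k) c ≠ n := by
      intro c (h : k = n)
      rw [h] at hk
      have h1 : 1 * n < r * n := Nat.mul_lt_mul_of_pos_right hr.one_lt hn
      omega
    have hsum : ∑ c : ZMod r, (fun _ => k) c = n := by
      rw [Finset.sum_const, Finset.card_univ, ZMod.card, smul_eq_mul, hk]
    rw [Nat.card_eq_one_iff_unique]
    refine ⟨⟨?_⟩, ⟨⟨⟨fun _ => k, hsum, hk'⟩, MulAction.mem_fixedBy.2 (Subtype.ext rfl)⟩⟩⟩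
    have key : ∀ a : T r n, a ∈ MulAction.fixedBy (T r n) s → ∀ c, a.1 c = k := by
      intro a ha c
      have h1 := a.2.1
      rw [Finset.sum_congr rfl fun c _ => hconst a ha c, Finset.sum_const, Finset.card_univ, ZMod.card, smul_eq_mul]
        at h1
      rw [hconst a ha c]
      exact Nat.eq_of_mul_eq_mul_left hr.pos (h1.trans hk)
    rintro ⟨a, ha⟩ ⟨b, hb⟩
    exact Subtype.ext (Subtype.ext (funext fun c => by rw [key a ha, key b hb]))
  · rw [Nat.card_eq_zero]
    left
    constructor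
    rintro ⟨a, ha⟩
    apply hdvd
    have := a.2.1
    rw [Finset.sum_congr rfl fun c _ => hconst a ha c, Finset.sum_const, Finset.card_univ, ZMod.card, smul_eq_mul] at this
    exact ⟨_, this.symm⟩

/-- **The number of rotation orbits.** -/
theorem card_orbits (hn : 1 ≤ n) :
    Nat.card (Quotient (MulAction.orbitRel (Multiplicative (ZMod r)) (T r n))) =
      ((n + r - 1).choose (r - 1) - r - (if r ∣ n then 1 else 0)) / r + (if r ∣ n then 1 else 0) := by
  classical
  have hr : r.Prime := Fact.out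
  have := Fintype.ofFinite (T r n)
  have := Fintype.ofFinite (Quotient (MulAction.orbitRel (Multiplicative (ZMod r)) (T r n)))
  have h1 := MulAction.sum_card_fixedBy_eq_card_orbits_mul_card_group (Multiplicative (ZMod r)) (T r n)
  rw [← Finset.add_sum_erase Finset.univ _ (Finset.mem_univ (1 : Multiplicative (ZMod r)))] at h1
  have h2 : ∑ x ∈ (Finset.univ : Finset (Multiplicative (ZMod r))).erase 1, Fintype.card (MulAction.fixedBy (T r n) x) =
      (r - 1) * (if r ∣ n then 1 else 0) := by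
    rw [Finset.sum_congr rfl fun x hx => by
      rw [← Nat.card_eq_fintype_card, card_fixedBy hn (Finset.mem_erase.1 hx).1], Finset.sum_const,
      Finset.card_erase_of_mem (Finset.mem_univ _), Finset.card_univ, Fintype.card_multiplicative, ZMod.card,
      smul_eq_mul]
  have h3 : Fintype.card (MulAction.fixedBy (T r n) (1 : Multiplicative (ZMod r))) = (n + r - 1).choose (r - 1) - r := by
    rw [← card_T hn, ← Nat.card_eq_fintype_card]
    refine Nat.card_congr ?_
    rw [MulAction.fixedBy_one_eq_univ]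
    exact Equiv.Set.univ _
  rw [h2, h3, Fintype.card_multiplicative, ZMod.card, ← Nat.card_eq_fintype_card] at h1
  obtain ⟨f, hf⟩ : ∃ f, f = (if r ∣ n then 1 else 0 : ℕ) := ⟨_, rfl⟩
  rw [← hf] at h1 ⊢
  generalize (n + r - 1).choose (r - 1) - r = A at h1 ⊢
  generalize Nat.card (Quotient (MulAction.orbitRel (Multiplicative (ZMod r)) (T r n))) = K at h1 ⊢
  obtain ⟨s, rfl⟩ : ∃ s, r = s + 1 := ⟨r - 1, by have := hr.two_le; omega⟩
  rw [Nat.add_sub_cancel] at h1
  have hs : 1 ≤ s := by have := hr.two_le; omega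
  have hf01 : f = 0 ∨ f = 1 := by rw [hf]; split_ifs <;> simp
  rcases hf01 with h | h
  · rw [h, Nat.sub_zero, add_zero]
    rw [h, mul_zero, add_zero] at h1
    rw [h1, Nat.mul_div_cancel _ (Nat.succ_pos s)]
  · rw [h]
    rw [h, mul_one] at h1
    obtain ⟨k, rfl⟩ : ∃ k, K = k + 1 := ⟨K - 1, by
      have : K ≠ 0 := by rintro rfl; omega
      omega⟩
    have h4 : A - 1 = k * (s + 1) := by
      have : (k + 1) * (s + 1) = k * (s + 1) + (s + 1) := by ring
      omega
    rw [h4, Nat.mul_div_cancel _ (Nat.succ_pos s)]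

end Cfsg.Agent.H193.Shift
end

-- part: H193/ProjCount
section
/-!
# Counting classes of elements of prime order modulo a centre of scalars
-/

set_option autoImplicit false

namespace Cfsg.Agent.H193.ProjCount

open Cfsg.Agent.H193.Shift

theorem card_eq_of_ker {S X Y : Type*} (p : S → X) (p' : S → Y) (hp : Function.Surjective p)
    (hp' : Function.Surjective p') (h : ∀ s t, p s = p t ↔ p' s = p' t) : Nat.card X = Nat.card Y := by
  have hk : Setoid.ker p = Setoid.ker p' := Setoid.ext fun s t => h s t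
  rw [← Nat.card_congr (Setoid.quotientKerEquivOfSurjective p hp),
    ← Nat.card_congr (Setoid.quotientKerEquivOfSurjective p' hp'), hk]

variable {G : Type*} [Group G]

theorem isConj_mk_iff {L : Type*} [CommGroup L] (σ : L →* G) (hcen : Subgroup.center G = σ.range) (A B : G) :
    IsConj (QuotientGroup.mk A : G ⧸ Subgroup.center G) (QuotientGroup.mk B) ↔ ∃ l, IsConj A (σ l * B) := by
  constructor
  · intro h
    obtain ⟨c, hc⟩ := isConj_iff.1 h
    obtain ⟨c, rfl⟩ := QuotientGroup.mk_surjective c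
    rw [← QuotientGroup.mk_inv, ← QuotientGroup.mk_mul, ← QuotientGroup.mk_mul] at hc
    rw [eq_comm, QuotientGroup.eq, hcen] at hc
    obtain ⟨l, hl⟩ := hc
    refine ⟨l, isConj_iff.2 ⟨c, ?_⟩⟩
    have hl' : σ l ∈ Subgroup.center G := by rw [hcen]; exact ⟨l, rfl⟩
    rw [← Subgroup.mem_center_iff.1 hl' B, hl]
    group
  · rintro ⟨l, hl⟩
    obtain ⟨c, hc⟩ := isConj_iff.1 hl
    refine isConj_iff.2 ⟨QuotientGroup.mk c, ?_⟩
    rw [← QuotientGroup.mk_inv, ← QuotientGroup.mk_mul, ← QuotientGroup.mk_mul, hc, QuotientGroup.mk_mul]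
    have h1 : (QuotientGroup.mk (σ l) : G ⧸ Subgroup.center G) = 1 := by
      rw [QuotientGroup.eq_one_iff, hcen]; exact ⟨l, rfl⟩
    rw [h1, one_mul]

theorem proj_count [Finite G] {L : Type*} [CommGroup L] [Finite L] [IsCyclic L] (σ : L →* G)
    (hσ : Function.Injective σ) (hcen : Subgroup.center G = σ.range) {r n : ℕ} [Fact r.Prime] (hn : 1 ≤ n)
    (hrL : r ∣ Nat.card L) (z : L) (hz : orderOf z = r) (τ : G → ZMod r → ℕ)
    (h1 : ∀ A B : G, A ^ r = 1 → B ^ r = 1 → (IsConj A B ↔ τ A = τ B))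
    (h2 : ∀ A : G, A ^ r = 1 → ∀ c, τ (σ z * A) c = τ A (c - 1))
    (h3 : ∀ a : ZMod r → ℕ, (∃ A : G, A ^ r = 1 ∧ τ A = a) ↔ ∑ c, a c = n)
    (h4 : τ 1 0 = n)
    (h5 : ∀ c : L, (∀ d : L, d ^ r ≠ c) → ∀ A B : G, A ^ r = σ c → B ^ r = σ c → IsConj A B)
    (h6 : r ∣ n → ∀ c : L, ∃ A : G, A ^ r = σ c)
    (D : G →* L) (hD : ∀ c, D (σ c) = c ^ n) :
    Nat.card {C : ConjClasses (G ⧸ Subgroup.center G) //
      ∃ g : G ⧸ Subgroup.center G, ConjClasses.mk g = C ∧ orderOf g = r} =
      (Nat.choose (n + r - 1) (r - 1) - r - (if r ∣ n then 1 else 0)) / r + r * (if r ∣ n then 1 else 0) := by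
  classical
  have hr : r.Prime := Fact.out
  have hcomm : ∀ l (A : G), Commute (σ l) A := fun l A => by
    have hl' : σ l ∈ Subgroup.center G := by rw [hcen]; exact ⟨l, rfl⟩
    exact (Subgroup.mem_center_iff.1 hl' A).symm
  have hzr : z ^ r = 1 := by rw [← hz, pow_orderOf_eq_one]
  have htors : ∀ l : L, l ^ r = 1 → ∃ k : ℕ, l = z ^ k := by
    intro l hl
    have hcard : Nat.card (Subgroup.zpowers z) = Nat.card (powMonoidHom r : L →* L).ker := by
      rw [Nat.card_zpowers, hz, IsCyclic.card_powMonoidHom_ker, Nat.gcd_eq_right hrL]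
    have hle : Subgroup.zpowers z ≤ (powMonoidHom r : L →* L).ker := by
      rw [Subgroup.zpowers_le]
      exact hzr
    have heq := Subgroup.eq_of_le_of_card_ge hle hcard.ge
    have hmem : l ∈ Subgroup.zpowers z := by rw [heq]; exact hl
    obtain ⟨k, hk⟩ := (mem_powers_iff_mem_zpowers.2 hmem : l ∈ Submonoid.powers z)
    exact ⟨k, hk.symm⟩
  have hshift : ∀ (A : G), A ^ r = 1 → ∀ (k : ℕ) c, τ (σ (z ^ k) * A) c = τ A (c - k) := by
    intro A hA k
    induction k with
    | zero => intro c; simp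
    | succ k ih =>
      intro c
      have h7 : (σ (z ^ k) * A) ^ r = 1 := by
        rw [(hcomm _ _).mul_pow, hA, ← map_pow, ← pow_mul, mul_comm, pow_mul, hzr, one_pow, map_one, one_mul]
      rw [pow_succ', map_mul, mul_assoc, h2 _ h7, ih]
      congr 1
      push_cast; ring
  have hτ1 : ∀ k : ℕ, τ (σ (z ^ k)) k = n := fun k => by
    rw [← mul_one (σ (z ^ k)), hshift 1 (one_pow r), sub_self, h4]
  have hcentral : ∀ A : G, A ^ r = 1 → (A ∈ Subgroup.center G ↔ ∃ c, τ A c = n) := by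
    intro A hA
    constructor
    · intro h
      rw [hcen] at h
      obtain ⟨l, rfl⟩ := h
      rw [← map_pow, ← map_one σ] at hA
      obtain ⟨k, rfl⟩ := htors l (hσ hA)
      exact ⟨k, hτ1 k⟩
    · rintro ⟨c, hc⟩
      have h7 : (σ (z ^ c.val)) ^ r = 1 := by
        rw [← map_pow, ← pow_mul, mul_comm, pow_mul, hzr, one_pow, map_one]
      have h8 : τ A = τ (σ (z ^ c.val)) := by
        rw [eq_del ((h3 _).1 ⟨A, hA, rfl⟩) hc, eq_del ((h3 _).1 ⟨_, h7, rfl⟩) (d := c) (by
          have := hτ1 c.val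
          rwa [ZMod.natCast_zmod_val] at this)]
      have h9 := (h1 _ _ hA h7).2 h8
      obtain ⟨d, hd⟩ := isConj_iff.1 h9
      have h10 : A = σ (z ^ c.val) := by
        have : A = d⁻¹ * σ (z ^ c.val) * d := by rw [← hd]; group
        rw [this, mul_assoc, (hcomm _ d).eq, inv_mul_cancel_left]
      rw [h10, hcen]
      exact ⟨_, rfl⟩
  -- the two kinds
  let S1 := {A : G // A ^ r = 1 ∧ A ∉ Subgroup.center G}
  let S2 := {A : G // ∃ c : L, (∀ d : L, d ^ r ≠ c) ∧ A ^ r = σ c}
  let q : G → ConjClasses (G ⧸ Subgroup.center G) := fun A => ConjClasses.mk (QuotientGroup.mk A)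
  let X1 : Set (ConjClasses (G ⧸ Subgroup.center G)) := {C | ∃ A : G, (A ^ r = 1 ∧ A ∉ Subgroup.center G) ∧ q A = C}
  let X2 : Set (ConjClasses (G ⧸ Subgroup.center G)) := {C | ∃ A : G, (∃ c : L, (∀ d : L, d ^ r ≠ c) ∧ A ^ r = σ c) ∧ q A = C}
  have hq : ∀ A B, q A = q B ↔ ∃ l, IsConj A (σ l * B) := fun A B => by
    show ConjClasses.mk _ = ConjClasses.mk _ ↔ _
    rw [ConjClasses.mk_eq_mk_iff_isConj, isConj_mk_iff σ hcen]
  have hpow : ∀ A B l, IsConj A (σ l * B) → ∀ x y, A ^ r = σ x → B ^ r = σ y → x = l ^ r * y := by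
    intro A B l h x y hx hy
    obtain ⟨d, hd⟩ := isConj_iff.1 h
    apply hσ
    have h7 : (d * A * d⁻¹) ^ r = d * A ^ r * d⁻¹ := by rw [conj_pow]
    rw [hd, (hcomm _ _).mul_pow, ← map_pow, hy, ← map_mul, hx, ← (hcomm x d).eq, mul_inv_cancel_right] at h7
    exact h7.symm
  have hX : {C : ConjClasses (G ⧸ Subgroup.center G) |
      ∃ g : G ⧸ Subgroup.center G, ConjClasses.mk g = C ∧ orderOf g = r} = X1 ∪ X2 := by
    ext C
    constructor
    · rintro ⟨g, rfl, hg⟩
      obtain ⟨A, rfl⟩ := QuotientGroup.mk_surjective g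
      have hne : A ∉ Subgroup.center G := by
        intro h
        rw [(QuotientGroup.eq_one_iff A).2 h, orderOf_one] at hg
        exact hr.one_lt.ne hg
      have hA : A ^ r ∈ Subgroup.center G := by
        rw [← QuotientGroup.eq_one_iff, QuotientGroup.mk_pow, ← hg, pow_orderOf_eq_one]
      rw [hcen] at hA
      obtain ⟨c, hc⟩ := hA
      by_cases hcr : ∃ d : L, d ^ r = c
      · left
        obtain ⟨d, rfl⟩ := hcr
        refine ⟨σ d⁻¹ * A, ⟨?_, ?_⟩, ?_⟩
        · rw [(hcomm _ _).mul_pow, ← map_pow, ← hc, ← map_mul, inv_pow, inv_mul_cancel, map_one]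
        · intro h
          apply hne
          have h8 : σ d ∈ Subgroup.center G := by rw [hcen]; exact ⟨d, rfl⟩
          have h9 := Subgroup.mul_mem _ h8 h
          rwa [← mul_assoc, ← map_mul, mul_inv_cancel, map_one, one_mul] at h9
        · exact (hq _ _).2 ⟨d⁻¹, IsConj.refl _⟩
      · right
        push Not at hcr
        exact ⟨A, ⟨c, hcr, hc.symm⟩, rfl⟩
    · rintro (⟨A, ⟨hA, hne⟩, rfl⟩ | ⟨A, ⟨c, hc, hA⟩, rfl⟩)
      · refine ⟨_, rfl, ?_⟩
        refine (Nat.dvd_prime hr).1 (orderOf_dvd_of_pow_eq_one ?_) |>.resolve_left ?_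
        · rw [← QuotientGroup.mk_pow, hA]; rfl
        · rw [orderOf_eq_one_iff, QuotientGroup.eq_one_iff]
          exact hne
      · refine ⟨_, rfl, ?_⟩
        refine (Nat.dvd_prime hr).1 (orderOf_dvd_of_pow_eq_one ?_) |>.resolve_left ?_
        · rw [← QuotientGroup.mk_pow, hA, QuotientGroup.eq_one_iff, hcen]
          exact ⟨c, rfl⟩
        · rw [orderOf_eq_one_iff, QuotientGroup.eq_one_iff, hcen]
          rintro ⟨d, rfl⟩
          rw [← map_pow] at hA
          exact hc d (hσ hA)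
  have hdisj : Disjoint X1 X2 := by
    rw [Set.disjoint_left]
    rintro _ ⟨A, ⟨hA, -⟩, rfl⟩ ⟨B, ⟨c, hc, hB⟩, hAB⟩
    obtain ⟨l, hl⟩ := (hq _ _).1 hAB
    have h7 := hpow B A l hl c 1 hB (by rw [hA, map_one])
    rw [mul_one] at h7
    exact hc l h7.symm
  -- the first kind
  have hcard1 : Nat.card X1 = ((n + r - 1).choose (r - 1) - r - (if r ∣ n then 1 else 0)) / r +
      (if r ∣ n then 1 else 0) := by
    rw [← card_orbits (r := r) hn]
    refine card_eq_of_ker (S := S1) (fun A => (⟨q A.1, A.1, A.2, rfl⟩ : X1))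
      (fun A => Quotient.mk'' (mkT (τ A.1) ((h3 _).1 ⟨A.1, A.2.1, rfl⟩)
        (fun c hc => A.2.2 ((hcentral _ A.2.1).2 ⟨c, hc⟩)))) ?_ ?_ ?_
    · rintro ⟨C, A, hA, rfl⟩
      exact ⟨⟨A, hA⟩, rfl⟩
    · intro a
      induction a using Quotient.inductionOn' with
      | _ a =>
        obtain ⟨A, hA, hAa⟩ := (h3 a.1).2 a.2.1
        refine ⟨⟨A, hA, fun h => ?_⟩, ?_⟩
        · obtain ⟨c, hc⟩ := (hcentral A hA).1 h
          rw [hAa] at hc
          exact a.2.2 c hc
        · exact congrArg Quotient.mk'' (Subtype.ext hAa)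
    · rintro ⟨A, hA, hA'⟩ ⟨B, hB, hB'⟩
      rw [Subtype.mk.injEq, hq, Quotient.eq'', MulAction.orbitRel_apply]
      constructor
      · rintro ⟨l, hl⟩
        have h7 := hpow A B l hl 1 1 (by rw [hA, map_one]) (by rw [hB, map_one])
        rw [mul_one] at h7
        obtain ⟨k, rfl⟩ := htors l h7.symm
        have h8 : (σ (z ^ k) * B) ^ r = 1 := by
          rw [(hcomm _ _).mul_pow, hB, ← map_pow, ← pow_mul, mul_comm, pow_mul, hzr, one_pow, map_one, one_mul]
        refine ⟨Multiplicative.ofAdd (k : ZMod r), Subtype.ext (funext fun c => ?_)⟩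
        show τ B (c - k) = τ A c
        rw [(h1 _ _ hA h8).1 hl, hshift B hB]
      · rintro ⟨m, hm⟩
        refine ⟨z ^ m.toAdd.val, ?_⟩
        have h8 : (σ (z ^ m.toAdd.val) * B) ^ r = 1 := by
          rw [(hcomm _ _).mul_pow, hB, ← map_pow, ← pow_mul, mul_comm, pow_mul, hzr, one_pow, map_one, one_mul]
        rw [h1 _ _ hA h8]
        funext c
        rw [hshift B hB, ZMod.natCast_zmod_val]
        exact (congrFun (congrArg Subtype.val hm) c).symm
  -- the second kind
  have hcard2 : Nat.card X2 = (r - 1) * (if r ∣ n then 1 else 0) := by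
    split_ifs with hdvd
    · rw [mul_one]
      have hidx : Nat.card (L ⧸ (powMonoidHom r : L →* L).range) = r := by
        have := IsCyclic.index_powMonoidHom_range L r
        rw [Nat.gcd_eq_right hrL] at this
        exact this
      have h7 : Nat.card {x : L ⧸ (powMonoidHom r : L →* L).range // x ≠ 1} = r - 1 := by
        have h8 : Nat.card {x : L ⧸ (powMonoidHom r : L →* L).range // x ≠ 1} =
            ({1}ᶜ : Set (L ⧸ (powMonoidHom r : L →* L).range)).ncard := rfl
        rw [h8, Set.ncard_compl, Set.ncard_singleton, hidx]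
      rw [← h7]
      refine card_eq_of_ker (S := {x : G × L // (∀ d : L, d ^ r ≠ x.2) ∧ x.1 ^ r = σ x.2})
        (fun x => (⟨q x.1.1, x.1.1, ⟨x.1.2, x.2⟩, rfl⟩ : X2))
        (fun x => ⟨QuotientGroup.mk x.1.2, fun h => ?_⟩) ?_ ?_ ?_
      · rw [QuotientGroup.eq_one_iff] at h
        obtain ⟨d, hd⟩ := h
        exact x.2.1 d hd
      · rintro ⟨C, A, ⟨c, hc⟩, rfl⟩
        exact ⟨⟨(A, c), hc⟩, rfl⟩
      · rintro ⟨x, hx⟩
        obtain ⟨c, rfl⟩ := QuotientGroup.mk_surjective x
        obtain ⟨A, hA⟩ := h6 hdvd c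
        refine ⟨⟨(A, c), fun d hd => hx ?_, hA⟩, rfl⟩
        rw [QuotientGroup.eq_one_iff]
        exact ⟨d, hd⟩
      · rintro ⟨⟨A, c⟩, hc, hA⟩ ⟨⟨B, c'⟩, hc', hB⟩
        rw [Subtype.mk.injEq, hq, Subtype.mk.injEq]
        show _ ↔ (QuotientGroup.mk c : L ⧸ (powMonoidHom r : L →* L).range) = QuotientGroup.mk c'
        rw [QuotientGroup.eq]
        constructor
        · rintro ⟨l, hl⟩
          have h9 := hpow A B l hl c c' hA hB
          refine ⟨l⁻¹, ?_⟩
          show l⁻¹ ^ r = c⁻¹ * c'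
          rw [h9, inv_pow, mul_inv, inv_mul_cancel_right]
        · rintro ⟨l, hl⟩
          have hl' : l ^ r = c⁻¹ * c' := hl
          refine ⟨l⁻¹, h5 c hc A _ hA ?_⟩
          have hB' : B ^ r = σ c' := hB
          rw [(hcomm _ _).mul_pow, hB', ← map_pow, ← map_mul, inv_pow, hl', mul_inv, inv_inv, mul_assoc,
            inv_mul_cancel, mul_one]
    · rw [mul_zero, Nat.card_eq_zero]
      left
      constructor
      rintro ⟨C, A, ⟨c, hc, hA⟩, -⟩
      have h7 : (D A) ^ r = c ^ n := by rw [← map_pow, hA, hD]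
      have hcop : Nat.gcd r n = 1 := (Nat.Prime.coprime_iff_not_dvd hr).2 hdvd
      have h8 := Nat.gcd_eq_gcd_ab r n
      rw [hcop] at h8
      apply hc (c ^ (Nat.gcdA r n) * (D A) ^ (Nat.gcdB r n))
      rw [mul_pow, ← zpow_natCast, ← zpow_natCast, ← zpow_mul, ← zpow_mul, mul_comm (Nat.gcdB r n), zpow_mul (D A),
        zpow_natCast, h7, ← zpow_natCast, ← zpow_mul, ← zpow_add, mul_comm (Nat.gcdA r n), ← h8]
      simp
  have hfin : Finite (ConjClasses (G ⧸ Subgroup.center G)) := Quotient.finite _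
  have e : {C : ConjClasses (G ⧸ Subgroup.center G) //
      ∃ g : G ⧸ Subgroup.center G, ConjClasses.mk g = C ∧ orderOf g = r} ≃ (X1 ⊕ X2) :=
    (Equiv.setCongr hX).trans (Equiv.Set.union hdisj)
  rw [Nat.card_congr e, Nat.card_sum, hcard1, hcard2]
  have hr1 := hr.two_le
  split_ifs <;> omega

end Cfsg.Agent.H193.ProjCount
end

-- part: H193/PGLCount
section
/-!
# Classes of elements of prime order `r` of `PGL_n(q)` (`r ∣ q - 1`) and `PGU_n(q)` (`r ∣ q + 1`)
-/

set_option autoImplicit false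

open Polynomial

namespace Cfsg.Agent.H193.PGLCount

open Cfsg.Agent.H193.Types Cfsg.Agent.H193.ScalarRoots Cfsg.Agent.H193.ProjCount

theorem pgl_count {F : Type*} [Field F] [Fintype F] {q : ℕ} (hF : Fintype.card F = q) {n r : ℕ} (hn : 1 ≤ n)
    (hr : r.Prime) (hrq : r ∣ q - 1) :
    Nat.card {C : ConjClasses (GL (Fin n) F ⧸ Subgroup.center (GL (Fin n) F)) //
      ∃ g : GL (Fin n) F ⧸ Subgroup.center (GL (Fin n) F), ConjClasses.mk g = C ∧ orderOf g = r} =
      (Nat.choose (n + r - 1) (r - 1) - r - (if r ∣ n then 1 else 0)) / r + r * (if r ∣ n then 1 else 0) := by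
  classical
  have : Fact r.Prime := ⟨hr⟩
  have hrL : r ∣ Nat.card Fˣ := by rw [Nat.card_eq_fintype_card, Fintype.card_units, hF]; exact hrq
  obtain ⟨z, hz⟩ := exists_prime_orderOf_dvd_card' r hrL
  have hz' : IsPrimitiveRoot (z : F) r := by
    rw [IsPrimitiveRoot.coe_units_iff, ← hz]
    exact IsPrimitiveRoot.orderOf z
  have hζ : IsPrimitiveRoot (algebraMap F (AlgebraicClosure F) (z : F)) r :=
    hz'.map_of_injective (algebraMap F (AlgebraicClosure F)).injective
  have hsc : ∀ c : Fˣ, ((Matrix.GeneralLinearGroup.scalar (Fin n) c : GL (Fin n) F) : Matrix (Fin n) (Fin n) F) =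
      (c : F) • (1 : Matrix (Fin n) (Fin n) F) := fun c => by
    rw [← Matrix.diagonal_one, ← Matrix.diagonal_smul]
    show Matrix.diagonal _ = _
    congr 1
    funext i
    simp
  refine proj_count (Matrix.GeneralLinearGroup.scalar (Fin n)) (fun x y h => ?_)
    Matrix.GeneralLinearGroup.center_eq_range_scalar hn hrL z hz
    (fun A c => ty (algebraMap F (AlgebraicClosure F) (z : F)) (A : Matrix (Fin n) (Fin n) F) c)
    (fun A B hA hB => isConj_iff_ty hζ hA hB) (fun A hA c => ?_) (fun a => ?_) ?_ (fun c hc A B hA hB => ?_)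
    (fun hdvd c => ?_) Matrix.GeneralLinearGroup.det (fun c => ?_)
  · have h1 := congrArg (fun M : GL (Fin n) F => (M : Matrix (Fin n) (Fin n) F) ⟨0, hn⟩ ⟨0, hn⟩) h
    simp only [hsc] at h1
    exact Units.ext (by simpa using h1)
  · rw [Units.val_mul, hsc, smul_mul_assoc, one_mul]
    exact ty_smul hz' hA c
  · constructor
    · rintro ⟨A, hA, rfl⟩
      have hA' : (A : Matrix (Fin n) (Fin n) F) ^ r = 1 := by rw [← Units.val_pow_eq_pow_val, hA, Units.val_one]
      have := sum_ty hζ hA'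
      rwa [Fintype.card_fin] at this
    · intro ha
      obtain ⟨c, hc⟩ := exists_of_tuple (E := AlgebraicClosure F) hz' a ha
      have hD : (Matrix.diagonal (fun i => (z : F) ^ (c i).val) : Matrix (Fin n) (Fin n) F) ^ r = 1 := by
        rw [Matrix.diagonal_pow]
        have : (fun i => (z : F) ^ (c i).val) ^ r = fun _ => (1 : F) := by
          funext i
          rw [Pi.pow_apply, ← pow_mul, mul_comm, pow_mul, hz'.pow_eq_one, one_pow]
        rw [this, Matrix.diagonal_one]
      have hu : IsUnit (Matrix.diagonal (fun i => (z : F) ^ (c i).val) : Matrix (Fin n) (Fin n) F) :=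
        IsUnit.of_pow_eq_one hD (NeZero.ne r)
      exact ⟨hu.unit, Units.ext (by rw [Units.val_pow_eq_pow_val, IsUnit.unit_spec, hD, Units.val_one]),
        funext fun d => hc d⟩
  · have h1 := ty_diag (E := AlgebraicClosure F) hz' (fun _ : Fin n => (0 : ZMod r)) 0
    have h2 : (Matrix.diagonal fun _ : Fin n => (z : F) ^ (0 : ZMod r).val) = (1 : Matrix (Fin n) (Fin n) F) := by
      rw [ZMod.val_zero, pow_zero, Matrix.diagonal_one]
    rw [h2] at h1
    show ty (algebraMap F (AlgebraicClosure F) (z : F)) ((1 : GL (Fin n) F) : Matrix (Fin n) (Fin n) F) 0 = n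
    rw [Units.val_one, h1]
    simp
  · refine isConj_of_pow_eq hr (c := (c : F)) (fun d hd => ?_) A B ?_ ?_
    · have hd0 : d ≠ 0 := by
        rintro rfl
        rw [zero_pow hr.ne_zero] at hd
        exact c.ne_zero hd.symm
      exact hc (Units.mk0 d hd0) (Units.ext (by rw [Units.val_pow_eq_pow_val]; exact hd))
    · rw [← Units.val_pow_eq_pow_val, hA, hsc]
    · rw [← Units.val_pow_eq_pow_val, hB, hsc]
  · obtain ⟨τ, d, hd, hM⟩ := exists_monomial hr.one_le hdvd (c : F)
    obtain ⟨M, hM'⟩ : ∃ M, M = Matrix.diagonal d * τ.permMatrix F := ⟨_, rfl⟩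
    rw [← hM'] at hM
    have hu : IsUnit M := by
      have h1 : IsUnit (M ^ r) := by
        rw [hM, ← hsc]
        exact Units.isUnit _
      exact (isUnit_pow_iff hr.ne_zero).1 h1
    exact ⟨hu.unit, Units.ext (by rw [Units.val_pow_eq_pow_val, IsUnit.unit_spec, hM, hsc])⟩
  · rw [Matrix.GeneralLinearGroup.det_scalar, Fintype.card_fin]

open Cfsg.Agent.ClassicalGeometry.GUBasic in
theorem pgu_count {K : Type*} [Field K] [Fintype K] {q n r : ℕ} (hK : Fintype.card K = q ^ 2) (hn : 1 ≤ n)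
    (hr : r.Prime) (hr2 : r ≠ 2) (hrq : r ∣ q + 1) :
    Nat.card {C : ConjClasses (↥(Cfsg.GU n K q) ⧸ Subgroup.center ↥(Cfsg.GU n K q)) //
      ∃ g : ↥(Cfsg.GU n K q) ⧸ Subgroup.center ↥(Cfsg.GU n K q), ConjClasses.mk g = C ∧ orderOf g = r} =
      (Nat.choose (n + r - 1) (r - 1) - r - (if r ∣ n then 1 else 0)) / r + r * (if r ∣ n then 1 else 0) := by
  classical
  have : Fact r.Prime := ⟨hr⟩
  have hcardL : Nat.card (rootsOfUnity (q + 1) K) = q + 1 := card_rootsOfUnity_eq hK
  have hrL : r ∣ Nat.card (rootsOfUnity (q + 1) K) := by rw [hcardL]; exact hrq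
  obtain ⟨z, hz⟩ := exists_prime_orderOf_dvd_card' r hrL
  have hpow : ∀ x : rootsOfUnity (q + 1) K, ((x : Kˣ) : K) ^ (q + 1) = 1 := fun x => by
    rw [← Units.val_pow_eq_pow_val, (mem_rootsOfUnity _ _).1 x.2, Units.val_one]
  have hz' : IsPrimitiveRoot ((z : Kˣ) : K) r := by
    rw [IsPrimitiveRoot.coe_units_iff, ← hz, ← Subgroup.orderOf_coe]
    exact IsPrimitiveRoot.orderOf _
  have hζ : IsPrimitiveRoot (algebraMap K (AlgebraicClosure K) ((z : Kˣ) : K)) r :=
    hz'.map_of_injective (algebraMap K (AlgebraicClosure K)).injective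
  let σ : rootsOfUnity (q + 1) K →* Cfsg.GU n K q :=
    { toFun := fun x => guDiag q (fun _ => ((x : Kˣ) : K)) (fun _ => hpow x)
      map_one' := gu_ext (by rw [coe_guDiag]; simp)
      map_mul' := fun x y => gu_ext (by
        show Matrix.diagonal _ = Matrix.diagonal _ * Matrix.diagonal _
        rw [Matrix.diagonal_mul_diagonal]
        simp) }
  have hsc : ∀ c, ((σ c : GL (Fin n) K) : Matrix (Fin n) (Fin n) K) =
      ((c : Kˣ) : K) • (1 : Matrix (Fin n) (Fin n) K) := fun c => by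
    rw [← Matrix.diagonal_one, ← Matrix.diagonal_smul]
    show Matrix.diagonal _ = _
    congr 1
    funext i
    simp
  have hcoe : ∀ A : Cfsg.GU n K q, A ^ r = 1 → (A : GL (Fin n) K) ^ r = 1 := fun A hA => by
    rw [← Subgroup.coe_pow, hA]; rfl
  refine proj_count σ (fun x y h => ?_) ?_ hn hrL z hz
    (fun A c => ty (algebraMap K (AlgebraicClosure K) ((z : Kˣ) : K)) ((A : GL (Fin n) K) : Matrix (Fin n) (Fin n) K) c)
    (fun A B hA hB => ?_) (fun A hA c => ?_) (fun a => ?_) ?_ (fun c hc A B hA hB => ?_)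
    (fun hdvd c => ?_) (detHom n hK) (fun c => ?_)
  · have h1 := congrArg (fun M : Cfsg.GU n K q => ((M : GL (Fin n) K) : Matrix (Fin n) (Fin n) K) ⟨0, hn⟩ ⟨0, hn⟩) h
    simp only [hsc] at h1
    exact Subtype.ext (Units.ext (by simpa using h1))
  · ext A
    rw [mem_center_GU_iff hK hn, MonoidHom.mem_range]
    constructor
    · rintro ⟨c, hc, rfl⟩
      have hc0 : c ≠ 0 := by
        rintro rfl
        rw [zero_pow (Nat.succ_ne_zero q)] at hc
        exact zero_ne_one hc
      exact ⟨⟨Units.mk0 c hc0, (mem_rootsOfUnity _ _).2 (Units.ext (by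
        rw [Units.val_pow_eq_pow_val]; exact hc))⟩, rfl⟩
    · rintro ⟨c, rfl⟩
      exact ⟨_, hpow c, rfl⟩
  · rw [Cfsg.Agent.H186.gu_isConj_iff hK]
    exact isConj_iff_ty hζ (hcoe A hA) (hcoe B hB)
  · show ty _ (((σ z : GL (Fin n) K) : Matrix (Fin n) (Fin n) K) * ((A : GL (Fin n) K) : Matrix (Fin n) (Fin n) K)) c = _
    rw [hsc, smul_mul_assoc, one_mul]
    exact ty_smul hz' (hcoe A hA) c
  · constructor
    · rintro ⟨A, hA, rfl⟩
      have hA' : ((A : GL (Fin n) K) : Matrix (Fin n) (Fin n) K) ^ r = 1 := by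
        rw [← Units.val_pow_eq_pow_val, hcoe A hA, Units.val_one]
      have := sum_ty hζ hA'
      rwa [Fintype.card_fin] at this
    · intro ha
      obtain ⟨c, hc⟩ := exists_of_tuple (E := AlgebraicClosure K) hz' a ha
      refine ⟨guDiag q (fun i => ((z : Kˣ) : K) ^ (c i).val) (fun i => ?_), gu_ext ?_, funext fun d => ?_⟩
      · rw [← pow_mul, mul_comm, pow_mul, hpow, one_pow]
      · show (Matrix.diagonal (fun i => ((z : Kˣ) : K) ^ (c i).val) : Matrix (Fin n) (Fin n) K) ^ r = 1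
        rw [Matrix.diagonal_pow]
        have : (fun i => ((z : Kˣ) : K) ^ (c i).val) ^ r = fun _ => (1 : K) := by
          funext i
          rw [Pi.pow_apply, ← pow_mul, mul_comm, pow_mul, hz'.pow_eq_one, one_pow]
        rw [this, Matrix.diagonal_one]
      · exact hc d
  · have h1 := ty_diag (E := AlgebraicClosure K) hz' (fun _ : Fin n => (0 : ZMod r)) 0
    have h2 : (Matrix.diagonal fun _ : Fin n => ((z : Kˣ) : K) ^ (0 : ZMod r).val) = (1 : Matrix (Fin n) (Fin n) K) := by
      rw [ZMod.val_zero, pow_zero, Matrix.diagonal_one]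
    rw [h2] at h1
    show ty (algebraMap K (AlgebraicClosure K) ((z : Kˣ) : K)) (1 : Matrix (Fin n) (Fin n) K) 0 = n
    rw [h1]
    simp
  · rw [Cfsg.Agent.H186.gu_isConj_iff hK]
    refine isConj_of_pow_eq hr (c := ((c : Kˣ) : K)) (fun d hd => ?_) _ _ ?_ ?_
    · have hd0 : d ≠ 0 := by
        rintro rfl
        rw [zero_pow hr.ne_zero] at hd
        exact (c : Kˣ).ne_zero hd.symm
      -- `d` has norm one
      have h1 : (Units.mk0 d hd0) ^ (r * (q + 1)) = 1 := Units.ext (by
        rw [Units.val_pow_eq_pow_val, Units.val_mk0, pow_mul, hd, hpow, Units.val_one])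
      have h2 : (Units.mk0 d hd0) ^ ((q - 1) * (q + 1)) = 1 := by
        have h3 : (Units.mk0 d hd0) ^ Fintype.card Kˣ = 1 := pow_card_eq_one
        rw [Fintype.card_units, hK] at h3
        rw [← h3]
        congr 1
        obtain ⟨s, rfl⟩ : ∃ s, q = s + 1 := ⟨q - 1, by have := two_le hK; omega⟩
        rw [Nat.add_sub_cancel]
        have : (s + 1) ^ 2 = s * (s + 1 + 1) + 1 := by ring
        omega
      have hcop : Nat.Coprime r (q - 1) := by
        rw [Nat.Prime.coprime_iff_not_dvd hr]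
        intro h
        have h4 : r ∣ (q + 1) - (q - 1) := Nat.dvd_sub hrq h
        have h5 : (q + 1) - (q - 1) = 2 := by have := two_le hK; omega
        rw [h5] at h4
        exact hr2 ((Nat.prime_dvd_prime_iff_eq hr Nat.prime_two).1 h4)
      have h3 : (Units.mk0 d hd0) ^ (q + 1) = 1 := by
        have h4 := pow_gcd_eq_one.2 ⟨h1, h2⟩
        rwa [Nat.gcd_mul_right, hcop, one_mul] at h4
      exact hc ⟨Units.mk0 d hd0, (mem_rootsOfUnity _ _).2 h3⟩ (Subtype.ext (Units.ext (by
        rw [Subgroup.coe_pow, Units.val_pow_eq_pow_val]; exact hd)))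
    · rw [← hsc, ← hA]; rfl
    · rw [← hsc, ← hB]; rfl
  · obtain ⟨τ, d, hd, hM⟩ := exists_monomial hr.one_le hdvd ((c : Kˣ) : K)
    refine ⟨guDiag q d (fun i => ?_) * guPerm q τ, gu_ext ?_⟩
    · rcases hd i with h | h
      · rw [h, one_pow]
      · rw [h, hpow]
    · rw [hsc]
      exact hM
  · apply Subtype.ext
    apply Units.ext
    show ((detHom n hK (guDiag q (fun _ => ((c : Kˣ) : K)) (fun _ => hpow c)) : Kˣ) : K) = _
    rw [detHom_guDiag, Finset.prod_const, Finset.card_univ, Fintype.card_fin]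
    rfl

end Cfsg.Agent.H193.PGLCount
end
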